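import Cfsg.Agent.Mrg.Omega.NOThreeL.Star
import Cfsg.Agent.Mrg.Omega.NOThreeL.Plug
import Cfsg.Agent.PLocal.OffenderStep
import Cfsg.Agent.Mrg.Omega.NOThreeL.ATwo.Comp
import Cfsg.Agent.Mrg.Omega.NOThreeL.ATwo.Lin
import Cfsg.Agent.Mrg.Omega.NOThreeL.AFour.Act

-- merged: Cfsg.Agent.Mrg.Omega.NOThreeL.ATwo.Main
section

/-!
# NO-3L A2, `q = 2` (text #14933, helper850)

`D : DataZ S`, `E : Exact S P H`, `V_P` a sum of `k ≥ 1` natural `SL₂(2)`-modules: contradiction.

* `Fr` : the situation; `ind` : `U_H` induces all upper unitriangular elements of `SL₂(2)^k`;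
* `exists_z`, `cfg` : `Z = ⟨z⟩` and `Cfg M z U_H`;
* `gdata` : `GData`; `fixed_four` : (6); `fixed_two` : (4);
* `false_of` : the contradiction; `a2_two` : the socket `Main.A2` for fields of order 2.
-/

set_option autoImplicit false
set_option Elab.async false

namespace Cfsg.Agent.Omega.NOThreeL.ATwo

open Subgroup Cfsg Cfsg.Agent.ZN Cfsg.Agent.Omega.FrameNOFF
open Cfsg.Agent.ZN.ChoiceBase hiding mem_zc
open Cfsg.Agent.Omega.MinPar Cfsg.Agent.Omega.FFThm Cfsg.Agent.Omega.Node.NO3L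
open Cfsg.Agent.Omega.NOThreeL.Basic Cfsg.Agent.Omega.NOThreeL.Main
open Cfsg.Agent.MinSimple.VModule (le_normalizer_zl zl_le zc_le_zl zc_le mem_zc zl_comm zl_sq le_o2 o2_isPGroup
  le_normalizer_o2 le_centralizer_zc o2_le)
open Cfsg.Agent.Lib.SL2Mat
open Cfsg.Agent.Omega.NatPair (ap ap_mul ap_one ap_inv_ap ap_ap_inv exists_ap ap_add)
open Cfsg.Agent.Omega.IId (Ind cj_mem cj_mem' e_inj acts_mul acts_inv acts_one sg sg_spec e_one e_inv fac
  exists_ind exists_trans exists_fac ext_fac mem_fac eq_one_of_cent)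
open scoped Pointwise

universe u

variable {G : Type u} [Group G]

/-! ### Commutators on `V` -/

section comm

variable {F : Type} [Field F] {S P : Subgroup G} {k : ℕ} {M : NatK F S P (zl S P) ⊥ k}

/-- `u` acts as `up b`; the coordinates of `u v u⁻¹ v⁻¹`. -/
theorem e_cm {u v : G} {b : Fin k → F} (hu : u ∈ P) (hv : v ∈ zl S P) (h : Up M u b) (i : Fin k) :
    M.e (u * v * u⁻¹ * v⁻¹) i = ![b i * M.e v i 1, 0] := by
  rw [M.mul _ (cj_mem hu hv) _ (inv_mem hv), Pi.add_apply, h.1 v hv i, e_inv M hv, Pi.neg_apply]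
  apply NatPair.ext2
  · rw [Pi.add_apply, NatPair.ap_zero', Pi.neg_apply]
    simp
  · rw [Pi.add_apply, NatPair.ap_one', Pi.neg_apply]
    simp

/-- `b i = 0` if and only if `u` centralises the `i`-th factor. -/
theorem b_eq_zero_iff {u : G} {b : Fin k → F} (hu : u ∈ P) (h : Up M u b) (i : Fin k) :
    b i = 0 ↔ u ∈ centralizer (fac M i : Set G) := by
  constructor
  · intro h0
    rw [mem_centralizer_iff]
    intro v hv
    have h1 : u * v * u⁻¹ = v := by
      refine e_inj M (cj_mem hu hv.1) hv.1 (funext fun j => ?_)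
      rw [h.1 v hv.1 j]
      by_cases hj : j = i
      · rw [hj]
        change ap (up (b i)) _ = _
        rw [h0, up_zero, ap_one]
      · rw [hv.2 j hj]
        apply NatPair.ext2
        · rw [NatPair.ap_zero']; simp
        · rw [NatPair.ap_one']; simp
    calc v * u = u * v * u⁻¹ * u := by rw [h1]
      _ = u * v := by group
  · intro hc
    obtain ⟨v, hv, he⟩ := exists_fac M i ![0, 1]
    have h1 := mem_centralizer_iff.1 hc v hv
    have h2 := e_cm hu hv.1 h i
    have h3 : u * v * u⁻¹ * v⁻¹ = 1 := by rw [← h1]; group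
    rw [h3, e_one, he] at h2
    have h4 := congrFun h2 0
    simp at h4
    exact h4.symm

end comm

variable [Finite G] {S : Sylow 2 G} {P H : Subgroup G} {F : Type} [Field F] {k : ℕ}

/-- The situation. -/
structure Fr (S : Sylow 2 G) (P H : Subgroup G) (M : NatK F (S : Subgroup G) P (zl (S : Subgroup G) P) ⊥ k) : Prop
    where
  hc : IsCharacteristicTwoType G
  ne : (S : Subgroup G) ≠ ⊥
  D : Data (S : Subgroup G)
  E : Exact (S : Subgroup G) P H
  two : ∀ x : F, x = 0 ∨ x = 1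
  pos : 0 < k

namespace Fr

variable {M : NatK F (S : Subgroup G) P (zl (S : Subgroup G) P) ⊥ k} (h : Fr S P H M)
include h

theorem SP : (S : Subgroup G) ≤ P := h.E.par.le

theorem SH : (S : Subgroup G) ≤ H := h.E.long.loc.le

theorem US : zl (S : Subgroup G) H ≤ (S : Subgroup G) := IsLong.zl_le_S h.hc h.E.long

theorem UP : zl (S : Subgroup G) H ≤ P := h.US.trans h.SP

theorem VS : zl (S : Subgroup G) P ≤ (S : Subgroup G) := IsParS.zl_le_S h.hc h.E.par

theorem ab : ∀ u ∈ zl (S : Subgroup G) H, ∀ v ∈ zl (S : Subgroup G) H, u * v = v * u := by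
  intro u hu v hv
  have h1 := (NOThreeL.Pair.zl_abel h.hc S h.E.long.loc).1
  exact mem_centralizer_iff.1 (h1 hv) u hu

theorem sq : ∀ u ∈ zl (S : Subgroup G) H, u * u = 1 := by
  intro u hu
  have h1 := (mem_zc.1 (h.E.long.loc.zl_le S h.hc hu)).2.2
  rwa [pow_two] at h1

/-- `U_H` induces all upper unitriangular elements of `SL₂(F)^k`. -/
theorem ind : Ind M (zl (S : Subgroup G) H) Set.univ := by
  obtain ⟨I, hI⟩ := exists_ind M h.US h.E.off
  have hI' : I = Set.univ := by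
    by_contra hne
    obtain ⟨j, hj⟩ : ∃ j, j ∉ I := by
      by_contra hcon
      push Not at hcon
      exact hne (Set.eq_univ_of_forall hcon)
    refine h.E.off.ne fun u hu => ?_
    obtain ⟨b, hb, hub⟩ := hI.act u hu
    have hb0 : b = 0 := by
      funext i
      by_contra h0
      obtain ⟨t, ht, htf⟩ := exists_trans M h.SP j i
      have hu' : t⁻¹ * u * t ∈ zl (S : Subgroup G) H := by
        have h1 := (mem_normalizer_iff.1 (inv_mem (le_normalizer_zl _ _ (h.SH ht))) u).1 hu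
        rwa [inv_inv] at h1
      obtain ⟨b', hb', hub'⟩ := hI.act _ hu'
      have h2 := (b_eq_zero_iff (M := M) (h.UP hu') hub' j).1 (hb' j hj)
      apply h0
      refine (b_eq_zero_iff (M := M) (h.UP hu) hub i).2 ?_
      rw [mem_centralizer_iff] at h2 ⊢
      intro v hv
      have hv' : t⁻¹ * v * t ∈ fac M j := by
        rw [← mem_cj, htf]
        exact hv
      have h3 := h2 _ hv'
      calc v * u = t * ((t⁻¹ * v * t) * (t⁻¹ * u * t)) * t⁻¹ := by group
        _ = t * ((t⁻¹ * u * t) * (t⁻¹ * v * t)) * t⁻¹ := by rw [h3]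
        _ = u * v := by group
    rw [hb0] at hub
    exact Up.cent (M := M) (h.UP hu) hub
  rw [← hI']
  exact hI

theorem exists_u (b : Fin k → F) : ∃ u ∈ zl (S : Subgroup G) H, Up M u b :=
  h.ind.ex b fun _ hi => (hi (Set.mem_univ _)).elim

/-- the generator of `Z` -/
theorem exists_z : ∃ z ∈ zc (S : Subgroup G), z ≠ 1 ∧ (∀ i, M.e z i = ![1, 0]) ∧
    ∀ x ∈ zc (S : Subgroup G), x ≠ 1 → x = z := by
  have key : ∀ x ∈ zc (S : Subgroup G), x ≠ 1 → ∀ i, M.e x i = ![1, 0] := by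
    intro x hx hx1 i
    have hxV : x ∈ zl (S : Subgroup G) P := zc_le_zl _ _ hx
    have hxc := (mem_zc.1 hx).2.1
    have h1 : M.e x i ≠ 0 := fun h0 => hx1 (eq_one_of_cent M hxV hxc h0)
    obtain ⟨u, hu, huA⟩ := h.exists_u fun _ => 1
    have h2 := hxc u (h.US hu)
    have h3 := e_cm (h.UP hu) hxV huA i
    have h4 : u * x * u⁻¹ * x⁻¹ = 1 := by rw [h2]; group
    rw [h4, e_one] at h3
    have h5 : M.e x i 1 = 0 := by
      have := congrFun h3 0
      simp at this
      exact this.symm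
    have h6 : M.e x i 0 = 1 := by
      rcases h.two (M.e x i 0) with h0 | h0
      · exact absurd (NatPair.ext2 h0 h5) h1
      · exact h0
    exact NatPair.ext2 h6 h5
  have hne : zc (S : Subgroup G) ≠ ⊥ := ZN.ChoiceSit.zc_ne_bot S.isPGroup' h.ne
  obtain ⟨z, hz, hz1⟩ : ∃ z ∈ zc (S : Subgroup G), z ≠ 1 := by
    by_contra hcon
    push Not at hcon
    exact hne ((eq_bot_iff_forall _).2 hcon)
  refine ⟨z, hz, hz1, key z hz hz1, fun x hx hx1 => ?_⟩
  refine e_inj M (zc_le_zl _ _ hx) (zc_le_zl _ _ hz) (funext fun i => ?_)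
  rw [key x hx hx1 i, key z hz hz1 i]

variable {z : G}

theorem core {T : Subgroup G} (hz : ∀ x ∈ zc (S : Subgroup G), x ≠ 1 → x = z)
    (hT : T ≤ zl (S : Subgroup G) H) (hn : (S : Subgroup G) ≤ normalizer (T : Set G)) (h1 : T ≠ ⊥) : z ∈ T := by
  have : Fact (Nat.Prime 2) := ⟨Nat.prime_two⟩
  have hTp : IsPGroup 2 T := S.isPGroup'.to_le (hT.trans h.US)
  have h2 := Cfsg.Agent.PLocal.OffenderStep.inf_centralizer_ne_bot T (S : Subgroup G) hTp S.isPGroup' hn h1
  obtain ⟨x, hx, hx1⟩ : ∃ x ∈ T ⊓ centralizer ((S : Subgroup G) : Set G), x ≠ 1 := by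
    by_contra hcon
    push Not at hcon
    exact h2 ((eq_bot_iff_forall _).2 hcon)
  rw [mem_inf] at hx
  have h3 : x ∈ zc (S : Subgroup G) := by
    refine mem_zc.2 ⟨h.US (hT hx.1), fun b hb => mem_centralizer_iff.1 hx.2 b hb, ?_⟩
    rw [pow_two]
    exact h.sq x (hT hx.1)
  rw [← hz x h3 hx1]
  exact hx.1

omit h in
theorem mem_CZ (hz : ∀ x ∈ zc (S : Subgroup G), x ≠ 1 → x = z) {g : G} (hg : g * z = z * g) :
    g ∈ CZ (S : Subgroup G) := by
  refine mem_centralizer_iff.2 fun x hx => ?_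
  by_cases h1 : x = 1
  · rw [h1, one_mul, mul_one]
  · rw [hz x hx h1, hg]

theorem cfg (hzm : z ∈ zc (S : Subgroup G)) (hez : ∀ i, M.e z i = ![1, 0])
    (hz : ∀ x ∈ zc (S : Subgroup G), x ≠ 1 → x = z) : Cfg M z (zl (S : Subgroup G) H) where
  two := h.two
  pos := h.pos
  SP := h.SP
  zV := zc_le_zl _ _ hzm
  ez := hez
  ind := h.ind
  UP := h.UP
  cent := fun g hg => le_normalizer_zl _ _ (h.E.long.cz (mem_CZ hz hg))
  ab := h.ab
  sq := h.sq
  core := fun T hT hn h1 => h.core hz hT hn h1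

/-! ### The functionals -/

end Fr

open Classical in
/-- `phi M i u = 0` iff `u` centralises the `i`-th factor. -/
noncomputable def phi {S P : Subgroup G} (M : NatK F S P (zl S P) ⊥ k) (i : Fin k) (u : G) : ZMod 2 :=
  if u ∈ centralizer (fac M i : Set G) then 0 else 1

omit [Finite G] in
theorem phi_eq_zero {S P : Subgroup G} {M : NatK F S P (zl S P) ⊥ k} {i : Fin k} {u : G} :
    phi M i u = 0 ↔ u ∈ centralizer (fac M i : Set G) := by
  unfold phi
  split_ifs with h
  · exact ⟨fun _ => h, fun _ => rfl⟩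
  · exact ⟨fun h0 => absurd h0 (by decide), fun h0 => absurd h0 h⟩

omit [Finite G] in
theorem phi_eq_one {S P : Subgroup G} {M : NatK F S P (zl S P) ⊥ k} {i : Fin k} {u : G} :
    phi M i u = 1 ↔ phi M i u ≠ 0 := by
  unfold phi
  split_ifs with h
  · exact ⟨fun h0 => absurd h0 (by decide), fun h0 => absurd rfl h0⟩
  · exact ⟨fun _ => by decide, fun _ => rfl⟩

omit [Finite G] in
theorem phi_up {S P : Subgroup G} {M : NatK F S P (zl S P) ⊥ k} {i : Fin k} {u : G} {b : Fin k → F}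
    (hu : u ∈ P) (h : Up M u b) : phi M i u = 0 ↔ b i = 0 := by
  rw [phi_eq_zero, b_eq_zero_iff (M := M) hu h]

omit [Finite G] in
theorem phi_of_cent {S P : Subgroup G} {M : NatK F S P (zl S P) ⊥ k} {i : Fin k} {u : G}
    (h : u ∈ centralizer (zl S P : Set G)) : phi M i u = 0 :=
  phi_eq_zero.2 (centralizer_le (fun _ hv => hv.1) h)

omit [Finite G] in
theorem phi_congr {S P : Subgroup G} {M : NatK F S P (zl S P) ⊥ k} {i j : Fin k} {u v : G}
    (h : phi M i u = 0 ↔ phi M j v = 0) : phi M i u = phi M j v := by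
  by_cases h0 : phi M i u = 0
  · rw [h0, h.1 h0]
  · rw [phi_eq_one.2 h0, phi_eq_one.2 fun h1 => h0 (h.2 h1)]

omit [Finite G] in
theorem phi_conj {S P : Subgroup G} {M : NatK F S P (zl S P) ⊥ k} {i j : Fin k} {s u : G}
    (hs : cj s (fac M i) = fac M j) : phi M i (s⁻¹ * u * s) = phi M j u := by
  refine phi_congr ?_
  rw [phi_eq_zero, phi_eq_zero, ← hs, ← cj_centralizer, mem_cj]

omit [Finite G] in
/-- coordinates of a product -/
theorem e_prod {S P : Subgroup G} (M : NatK F S P (zl S P) ⊥ k) (l : List G) (hl : ∀ x ∈ l, x ∈ zl S P) :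
    M.e l.prod = (l.map M.e).sum := by
  induction l with
  | nil => exact e_one M
  | cons a l ih =>
    rw [List.prod_cons, List.map_cons, List.sum_cons, M.mul a (hl a List.mem_cons_self) _
      (Subgroup.list_prod_mem _ fun x hx => hl x (List.mem_cons_of_mem _ hx)),
      ih fun x hx => hl x (List.mem_cons_of_mem _ hx)]

omit [Finite G] in
theorem four_conj {H U : Subgroup G} {φ ψ : G → ZMod 2} {s : G} (hs : s ∈ H) (hn : ∀ x ∈ H, ∀ u ∈ U, x * u * x⁻¹ ∈ U)
    (hφ : ∀ u ∈ U, φ (s⁻¹ * u * s) = ψ u) (h : Four H U φ) : Four H U ψ := by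
  obtain ⟨e, he, d, hd, he1, hd1, hed, he0, hd0, ⟨x, hx, hxT⟩, ⟨y, hy, hyT⟩⟩ := h
  have tv : ∀ {e x : G}, TvBy U φ e x → TvBy U ψ (s * e * s⁻¹) (s * x * s⁻¹) := by
    intro e x hT u hu
    have hu' : s⁻¹ * u * s ∈ U := by
      have := hn s⁻¹ (inv_mem hs) u hu
      rwa [inv_inv] at this
    have h1 := hT _ hu'
    have e1 : s * x * s⁻¹ * u * (s * x * s⁻¹)⁻¹ = s * (x * (s⁻¹ * u * s) * x⁻¹) * s⁻¹ := by group
    rw [e1, h1, hφ u hu]
    split_ifs with h0
    · group
    · group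
  have m0 : ∀ {e : G}, e ∈ U → φ e = 0 → ψ (s * e * s⁻¹) = 0 := by
    intro e he h0
    rw [← hφ _ (hn s hs e he)]
    have e1 : s⁻¹ * (s * e * s⁻¹) * s = e := by group
    rw [e1, h0]
  refine ⟨s * e * s⁻¹, hn s hs e he, s * d * s⁻¹, hn s hs d hd, ?_, ?_, ?_, m0 he he0, m0 hd hd0,
    ⟨_, mul_mem (mul_mem hs hx) (inv_mem hs), tv hxT⟩, ⟨_, mul_mem (mul_mem hs hy) (inv_mem hs), tv hyT⟩⟩
  · exact fun h0 => he1 (conj_eq_one_iff.1 h0)
  · exact fun h0 => hd1 (conj_eq_one_iff.1 h0)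
  · intro h0
    exact hed (mul_left_cancel (mul_right_cancel h0))

namespace Fr

variable {M : NatK F (S : Subgroup G) P (zl (S : Subgroup G) P) ⊥ k} (h : Fr S P H M) {z : G}
include h

theorem nrm : ∀ x ∈ H, ∀ u ∈ zl (S : Subgroup G) H, x * u * x⁻¹ ∈ zl (S : Subgroup G) H :=
  fun x hx u hu => (mem_normalizer_iff.1 (le_normalizer_zl _ _ hx) u).1 hu

/-- `W_H` centralises `V`. -/
theorem WV : W (S : Subgroup G) H ≤ centralizer (zl (S : Subgroup G) P : Set G) := by
  have h1 : W (S : Subgroup G) H ≤ WP (S : Subgroup G) := W_le fun P hP _ c hc => line_le_WP hP hc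
  have h2 := Basic.comm_of_le h.hc h.D (x := 1) (y := 1) (by
    rw [map_one, one_smul, one_smul]; exact WP_le_Q h.D) (by
    rw [map_one, one_smul, one_smul]; exact WP_le_Q h.D)
  rw [map_one, one_smul] at h2
  exact (h1.trans h2).trans (centralizer_le (zl_le_WP h.E.par))

/-- The product `n` of `V`: the elements `n i`, `c i` of the `i`-th factor. -/
theorem exists_tv [CharP F 2] (i : Fin k) {c n : G} (hc : c ∈ zl (S : Subgroup G) P)
    (hce : M.e c = Pi.single i ![1, 0]) (hn : n ∈ zl (S : Subgroup G) P) (hne : M.e n = Pi.single i ![0, 1]) :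
    TvBy (zl (S : Subgroup G) H) (phi M i) c n := by
  intro u hu
  obtain ⟨b, -, hb⟩ := h.ind.act u hu
  have h1 : ∀ j, M.e (u * n * u⁻¹ * n⁻¹) j = ![b j * M.e n j 1, 0] := e_cm (h.UP hu) hn hb
  have hmem : u * n * u⁻¹ * n⁻¹ ∈ zl (S : Subgroup G) P := mul_mem (cj_mem (h.UP hu) hn) (inv_mem hn)
  have h2 : n * u * n⁻¹ = (u * n * u⁻¹ * n⁻¹)⁻¹ * u := by group
  have hphi := phi_up (M := M) (i := i) (h.UP hu) hb
  rw [h2]
  split_ifs with h00
  · have h0 := hphi.1 h00
    have h3 : u * n * u⁻¹ * n⁻¹ = 1 := by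
      refine e_inj M hmem (one_mem _) (funext fun j => ?_)
      rw [h1 j, e_one]
      by_cases hj : j = i
      · rw [hj, h0]
        apply NatPair.ext2 <;> simp
      · rw [hne, Pi.single_eq_of_ne hj]
        apply NatPair.ext2 <;> simp
    rw [h3, inv_one, one_mul]
  · have hb1 : b i = 1 := (h.two _).resolve_left fun h0 => h00 (hphi.2 h0)
    have h3 : u * n * u⁻¹ * n⁻¹ = c := by
      refine e_inj M hmem hc (funext fun j => ?_)
      rw [h1 j, hce]
      by_cases hj : j = i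
      · rw [hj, hb1, hne, Pi.single_eq_same, Pi.single_eq_same]
        apply NatPair.ext2 <;> simp
      · rw [hne, Pi.single_eq_of_ne hj, Pi.single_eq_of_ne hj]
        apply NatPair.ext2 <;> simp
    rw [h3]
    have hcU : c ∈ zl (S : Subgroup G) H := by
      rw [← h3]
      have e : u * n * u⁻¹ * n⁻¹ = u * (n * u⁻¹ * n⁻¹) := by group
      rw [e]
      exact mul_mem hu (h.nrm n (h.SH (h.VS hn)) _ (inv_mem hu))
    have h4 := h.sq c hcU
    rw [inv_eq_of_mul_eq_one_left h4]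
    exact h.ab c hcU u hu

theorem c_mem [CharP F 2] (i : Fin k) {c : G} (hc : c ∈ zl (S : Subgroup G) P)
    (hce : M.e c = Pi.single i ![1, 0]) : c ∈ zl (S : Subgroup G) H := by
  obtain ⟨n, hn, hne⟩ := M.surj (Pi.single i ![0, 1])
  obtain ⟨u, hu, hub⟩ := h.exists_u (Pi.single i 1)
  have h1 := h.exists_tv i hc hce hn hne u hu
  rw [if_neg (by
    rw [phi_up (h.UP hu) hub, Pi.single_eq_same]
    exact one_ne_zero)] at h1
  have h2 : c = u⁻¹ * (n * u * n⁻¹) := by rw [h1]; group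
  rw [h2]
  exact mul_mem (inv_mem hu) (h.nrm n (h.SH (h.VS hn)) _ hu)

theorem gen (hz : ∀ x ∈ zc (S : Subgroup G), x ≠ 1 → x = z) (L : Subgroup G) (A : Subgroup G)
    (hA : ∀ x ∈ L, x * z * x⁻¹ ∈ A) : zl (S : Subgroup G) L ≤ A := by
  refine iSup_le fun g => ?_
  intro w hw
  have hw' := NoFF.Basic.mem_conj.1 hw
  by_cases h1 : (g : G)⁻¹ * w * g = 1
  · have h2 : w = 1 := by
      calc w = g * ((g : G)⁻¹ * w * g) * (g : G)⁻¹ := by group
        _ = 1 := by rw [h1]; group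
    rw [h2]
    exact one_mem _
  · have h2 := hz _ hw' h1
    have h3 : w = g * z * (g : G)⁻¹ := by rw [← h2]; group
    rw [h3]
    exact hA g g.2

theorem gdata [CharP F 2] (hzm : z ∈ zc (S : Subgroup G)) (hez : ∀ i, M.e z i = ![1, 0])
    (hz : ∀ x ∈ zc (S : Subgroup G), x ≠ 1 → x = z) {c : Fin k → G}
    (hcV : ∀ i, c i ∈ zl (S : Subgroup G) P) (hce : ∀ i, M.e (c i) = Pi.single i ![1, 0]) :
    GData H (zl (S : Subgroup G) H) (W (S : Subgroup G) H) (S : Subgroup G) (o2 (CZ (S : Subgroup G))) z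
      (phi M) c where
  UH := h.US.trans h.SH
  SH := h.SH
  nrm := h.nrm
  ab := h.ab
  sq := h.sq
  zU := zc_le_zl _ _ hzm
  gen := fun A hA => h.gen hz H A hA
  core := fun T hT hn h1 => h.core hz hT hn h1
  add := by
    intro i u hu v hv
    obtain ⟨b, -, hb⟩ := h.ind.act u hu
    obtain ⟨b', -, hb'⟩ := h.ind.act v hv
    have h1 := phi_up (M := M) (i := i) (h.UP hu) hb
    have h2 := phi_up (M := M) (i := i) (h.UP hv) hb'
    have h3 := phi_up (M := M) (i := i) (mul_mem (h.UP hu) (h.UP hv)) (Up.mul (h.UP hv) hb hb')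
    rw [Pi.add_apply] at h3
    rcases h.two (b i) with e1 | e1 <;> rcases h.two (b' i) with e2 | e2
    · rw [h1.2 e1, h2.2 e2, h3.2 (by rw [e1, e2, add_zero]), add_zero]
    · rw [h1.2 e1, phi_eq_one.2 fun h0 => one_ne_zero (e2.symm.trans (h2.1 h0)),
        phi_eq_one.2 fun h0 => one_ne_zero (α := F) (by rw [← h3.1 h0, e1, e2, zero_add]), zero_add]
    · rw [h2.2 e2, phi_eq_one.2 fun h0 => one_ne_zero (e1.symm.trans (h1.1 h0)),
        phi_eq_one.2 fun h0 => one_ne_zero (α := F) (by rw [← h3.1 h0, e1, e2, add_zero]), add_zero]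
    · rw [phi_eq_one.2 fun h0 => one_ne_zero (e1.symm.trans (h1.1 h0)),
        phi_eq_one.2 fun h0 => one_ne_zero (e2.symm.trans (h2.1 h0)),
        h3.2 (by rw [e1, e2]; exact CharTwo.add_self_eq_zero 1)]
      decide
  ne := by
    intro i
    obtain ⟨u, hu, hub⟩ := h.exists_u (Pi.single i 1)
    refine ⟨u, hu, fun h0 => ?_⟩
    have h1 := (phi_up (M := M) (h.UP hu) hub).1 h0
    rw [Pi.single_eq_same] at h1
    exact one_ne_zero h1
  cU := fun i => h.c_mem i (hcV i) (hce i)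
  c0 := by
    intro i
    refine phi_of_cent (M := M) ?_
    rw [mem_centralizer_iff]
    intro v hv
    exact e_inj M (mul_mem hv (hcV i)) (mul_mem (hcV i) hv) (by
      rw [M.mul v hv _ (hcV i), M.mul _ (hcV i) v hv, add_comm])
  cne := by
    intro i h0
    have h1 := hce i
    rw [h0, e_one] at h1
    have h2 := congrFun (congrFun h1 i) 0
    rw [Pi.single_eq_same] at h2
    simp at h2
  prod := by
    have hm : ∀ x ∈ List.ofFn c, x ∈ zl (S : Subgroup G) P := by
      intro x hx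
      obtain ⟨i, rfl⟩ := (List.mem_ofFn' c x).1 hx
      exact hcV i
    refine e_inj M (zc_le_zl _ _ hzm) (Subgroup.list_prod_mem _ hm) ?_
    rw [e_prod M _ hm, List.map_ofFn, List.sum_ofFn]
    funext j
    rw [Finset.sum_apply, Finset.sum_eq_single j]
    · change _ = M.e (c j) j
      rw [hce j, Pi.single_eq_same, hez j]
    · intro i _ hij
      change M.e (c i) j = 0
      rw [hce i, Pi.single_eq_of_ne hij.symm]
    · intro h0
      exact absurd (Finset.mem_univ j) h0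
  tr := by
    intro i
    obtain ⟨n, hn, hne⟩ := M.surj (Pi.single i ![0, 1])
    exact ⟨n, h.SH (h.VS hn), h.D.low P h.E.par hn, h.exists_tv i (hcV i) (hce i) hn hne⟩
  QP := by
    intro x hx
    obtain ⟨n, hn⟩ := o2_isPGroup (CZ (S : Subgroup G)) ⟨x, hx⟩
    exact ⟨n, congrArg Subtype.val hn⟩
  QH := (o2_le _).trans h.E.long.cz
  Qn := fun x _ hxz y hy => (mem_normalizer_iff.1 (le_normalizer_o2 _ (mem_CZ hz hxz)) y).1 hy
  perm := by
    intro s hs i
    exact ⟨sg M (h.SP hs) i, fun u _ => phi_conj (IId.conj_fac M (h.SP hs) i)⟩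
  trans := by
    intro i j
    obtain ⟨s, hs, h1⟩ := exists_trans M h.SP i j
    exact ⟨s, hs, fun u _ => phi_conj h1⟩
  WU := W_le_zl h.E.long.cz
  Wn := fun x _ hxz w hw => (mem_normalizer_iff.1 (CZ_le_normalizer_W _ _ (mem_CZ hz hxz)) w).1 hw
  Wφ := fun i w hw => phi_of_cent (M := M) (h.WV hw)

/-- **(4)** no four transvections: a conjugate `z^x ∈ W_H`, `x ∈ H`, is `z`. -/
theorem fixed_two [CharP F 2] (hzm : z ∈ zc (S : Subgroup G)) (hez : ∀ i, M.e z i = ![1, 0])
    (hz : ∀ x ∈ zc (S : Subgroup G), x ≠ 1 → x = z)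
    (h4 : ∀ i, ¬ Four H (zl (S : Subgroup G) H) (phi M i)) {x : G} (hx : x ∈ H)
    (hxW : x * z * x⁻¹ ∈ W (S : Subgroup G) H) : x * z * x⁻¹ = z := by
  obtain ⟨a, b, U', hC⟩ := (h.cfg hzm hez hz).exists_comps
  have hWU : W (S : Subgroup G) H ≤ zl (S : Subgroup G) H := W_le_zl h.E.long.cz
  have hCH : centralizer (zl (S : Subgroup G) P : Set G) ≤ H :=
    (centralizer_le (zc_le_zl _ _)).trans h.E.long.cz
  -- `Y` is contained in the sum of the lines
  have hY : ∀ y ∈ zl (S : Subgroup G) H, y ∈ centralizer (zl (S : Subgroup G) P : Set G) →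
      y ∈ IId.lines M Set.univ := by
    intro y hy hyD
    refine hC.gen hy hyD fun i v hv hvA => ?_
    obtain ⟨m1, d1⟩ := hC.co.pi_mem (u := v) hv hyD
    have hid := hC.idem hv hy hyD
    obtain ⟨c, hc, hce⟩ := M.surj (Pi.single i ![1, 0])
    have hline : c ∈ IId.lines M Set.univ := by
      refine ⟨⟨hc, fun j hj => (hj (Set.mem_univ j)).elim⟩, fun j => ?_⟩
      rw [hce]
      by_cases hj : j = i
      · rw [hj, Pi.single_eq_same]; rfl
      · rw [Pi.single_eq_of_ne hj]; rfl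
    by_cases he1 : pi a b v y = 1
    · rw [he1]; exact one_mem _
    · have hec : pi a b v y = c := by
        by_contra hne
        obtain ⟨n, hn, hnn⟩ := M.surj (Pi.single i ![0, 1])
        refine h4 i ⟨pi a b v y, m1, c, h.c_mem i hc hce, he1, ?_, hne, phi_of_cent (M := M) d1,
          phi_of_cent (M := M) ?_, ⟨_, hCH (hC.co.rho_D d1), ?_⟩, ⟨n, h.SH (h.VS hn), h.exists_tv i hc hce hn hnn⟩⟩
        · intro h0
          rw [h0, e_one] at hce
          have h2 := congrFun (congrFun hce i) 0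
          rw [Pi.single_eq_same] at h2
          simp at h2
        · rw [mem_centralizer_iff]
          intro w hw
          exact e_inj M (mul_mem hw hc) (mul_mem hc hw) (by
            rw [M.mul w hw _ hc, M.mul _ hc w hw, add_comm])
        · intro u hu
          obtain ⟨β, -, hβ⟩ := h.ind.act u hu
          have h5 := hC.val hu hv hβ hvA m1 d1 hid
          have h6 := phi_up (M := M) (i := i) (h.UP hu) hβ
          set e := pi a b v y with he
          have h7 : a * b * e * (a * b)⁻¹ * u * (a * b * e * (a * b)⁻¹)⁻¹ = (pi a b u e)⁻¹ * u := by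
            unfold pi
            group
          rw [h7, h5]
          by_cases h8 : β i = 0
          · rw [if_pos h8, if_pos (h6.2 h8), inv_one, one_mul]
          · rw [if_neg h8, if_neg fun h9 => h8 (h6.1 h9), hC.co.sq' m1]
            exact h.ab e m1 u hu
      rw [hec]
      exact hline
  set w := x * z * x⁻¹ with hw
  have hwl := hY w (hWU hxW) (h.WV hxW)
  have hwV : w ∈ zl (S : Subgroup G) P := hwl.1.1
  by_contra hne
  obtain ⟨i, hi⟩ : ∃ i, M.e w i = 0 := by
    by_contra hcon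
    push Not at hcon
    apply hne
    refine e_inj M hwV (zc_le_zl _ _ hzm) (funext fun i => ?_)
    rw [hez i]
    have h1 := hwl.2 i
    have h2 : M.e w i 0 = 1 := by
      rcases h.two (M.e w i 0) with h0 | h0
      · exact absurd (NatPair.ext2 h0 h1) (hcon i)
      · exact h0
    exact NatPair.ext2 h2 h1
  obtain ⟨v, hv, hvA⟩ := h.exists_u (Pi.single i 1)
  have hv'A := hC.rho_lo (h.UP hv) hvA
  have hv'P : a * b * v * (a * b)⁻¹ ∈ P := mul_mem (mul_mem hC.rhoP (h.UP hv)) (inv_mem hC.rhoP)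
  set v' := a * b * v * (a * b)⁻¹ with hv'
  have hcomm : v' * w = w * v' := by
    have h1 : v' * w * v'⁻¹ = w := by
      refine e_inj M (cj_mem hv'P hwV) hwV (funext fun j => ?_)
      rw [hv'A.1 w hwV j]
      by_cases hj : j = i
      · rw [hj, hi]
        apply NatPair.ext2
        · rw [NatPair.ap_zero']; simp
        · rw [NatPair.ap_one']; simp
      · change ap (lo ((Pi.single i 1 : Fin k → F) j)) _ = _
        rw [Pi.single_eq_of_ne hj, lo_zero, ap_one]
    calc v' * w = v' * w * v'⁻¹ * v' := by group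
      _ = w * v' := by rw [h1]
  have hv'H : v' ∈ H := by
    have h1 : x⁻¹ * v' * x * z = z * (x⁻¹ * v' * x) := by
      calc x⁻¹ * v' * x * z = x⁻¹ * (v' * w) * x := by rw [hw]; group
        _ = x⁻¹ * (w * v') * x := by rw [hcomm]
        _ = z * (x⁻¹ * v' * x) := by rw [hw]; group
    have h2 := mul_mem (mul_mem hx (h.E.long.cz (mem_CZ hz h1))) (inv_mem hx)
    have e : x * (x⁻¹ * v' * x) * x⁻¹ = v' := by group
    rwa [e] at h2
  obtain ⟨c, hc, hce⟩ := M.surj (Pi.single i ![1, 0])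
  have hcU := h.c_mem i hc hce
  have hqU := h.nrm v' hv'H c hcU
  have hqV := cj_mem hv'P hc
  have hqe := hv'A.1 c hc i
  rw [hce, Pi.single_eq_same] at hqe
  have h1 := h.ab v hv _ hqU
  have h2 := e_cm (h.UP hv) hqV hvA i
  have h3 : v * (v' * c * v'⁻¹) * v⁻¹ * (v' * c * v'⁻¹)⁻¹ = 1 := by
    rw [h1]; group
  rw [h3, e_one, hqe, Pi.single_eq_same] at h2
  have h4 := congrFun h2 0
  have e5 : ap (lo ((Pi.single i 1 : Fin k → F) i)) ![1, 0] 1 = 1 := by
    rw [Pi.single_eq_same, NatPair.ap_one']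
    simp
  change (0 : F) = 1 * ap (lo ((Pi.single i 1 : Fin k → F) i)) ![1, 0] 1 at h4
  rw [e5, one_mul] at h4
  exact zero_ne_one h4

/-- **A2, `q = 2`** (helper850 #14933). -/
theorem false_of [CharP F 2] : False := by
  obtain ⟨z, hzm, hz1, hez, hz⟩ := h.exists_z
  have hfix : ∀ x ∈ H, x * z * x⁻¹ ∈ W (S : Subgroup G) H → x * z * x⁻¹ = z := by
    intro x hx hxW
    choose c hcV hce using fun i : Fin k => M.surj (Pi.single i ![1, 0])
    have hG := h.gdata hzm hez hz hcV hce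
    by_cases h4 : ∀ i, Four H (zl (S : Subgroup G) H) (phi M i)
    · exact hG.fixed h.pos h4 hx hxW
    · push Not at h4
      obtain ⟨i, hi⟩ := h4
      refine h.fixed_two hzm hez hz (fun j hj => hi ?_) hx hxW
      obtain ⟨s, hs, h1⟩ := hG.trans j i
      exact four_conj (h.SH hs) h.nrm h1 hj
  -- all `V_P`, `P ≤ H`, are trivial
  have hW : W (S : Subgroup G) H ≤ zc (S : Subgroup G) := by
    refine W_le fun R hR hRH c hc => ?_
    have h1 : zl (S : Subgroup G) R ≤ zc (S : Subgroup G) := by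
      refine h.gen hz R _ fun x hx => ?_
      have h2 : x * z * x⁻¹ ∈ W (S : Subgroup G) H := zl_le_W hR hRH
        ((mem_normalizer_iff.1 (le_normalizer_zl _ _ hx) z).1 (zc_le_zl _ _ hzm))
      rw [hfix x (hRH hx) h2]
      exact hzm
    have h2 : MulAut.conj c • zc (S : Subgroup G) = zc (S : Subgroup G) :=
      NOThreeL.Pair.conj_eq_of_mem (centralizer_le_normalizer _ hc)
    rw [← h2]
    exact NoFF.Basic.conj_le_iff.2 h1
  have hUZ : zl (S : Subgroup G) H ≤ zc (S : Subgroup G) := by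
    refine zl_le le_rfl ?_
    by_contra hn
    exact (W_not_le S h.E.long.loc hn).2 hW
  refine h.E.off.ne (hUZ.trans ?_)
  rw [le_centralizer_iff]
  exact h.VS.trans (le_centralizer_zc _)

end Fr

/-- **The leaf A2 for fields of order 2** (helper850 #14933): no such configuration. -/
theorem false_of_two (hG : Frame.Ctx G) {S : Sylow 2 G} (D : DataZ (S : Subgroup G)) {P H : Subgroup G}
    (E : Exact (S : Subgroup G) P H) {F : Type} [Field F] [CharP F 2] (hF : Nat.card F = 2) {k : ℕ} (hk : 0 < k)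
    (M : NatK F (S : Subgroup G) P (zl (S : Subgroup G) P) (FrameFF.cv (S : Subgroup G) P) k) : False := by
  have h1 := DataZ.cv_eq hG.char2 D E.par
  rw [h1] at M
  have : Finite F := Nat.finite_of_card_ne_zero (by rw [hF]; decide)
  have htwo : ∀ x : F, x = 0 ∨ x = 1 := by
    intro x
    by_contra hx
    push Not at hx
    have h2 : Function.Injective (fun i : Fin 3 => ![(0 : F), 1, x] i) := by
      intro i j hij
      fin_cases i <;> fin_cases j <;> simp_all
    have h3 := Nat.card_le_card_of_injective _ h2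
    rw [Nat.card_fin, hF] at h3
    omega
  exact Fr.false_of (M := M) ⟨hG.char2, hG.sylow_ne_bot S, D.toData, E, htwo, hk⟩

end Cfsg.Agent.Omega.NOThreeL.ATwo

end

-- merged: Cfsg.Agent.Mrg.Omega.NOThreeL.AFour.Frame
section

/-!
# NO-3L A4: the frame (`V_P` a sum of natural modules, nothing about offenders)

`FrA S P H M` : `DataZ S`, `PairA S P H`, `M : NatK F S P (zl S P) ⊥ k`.

* `cent_le` : `C_G(z) ≤ N_G(Z)` for `z ∈ Z#` (`C_Z(P) = 1` for all `P ∈ P*(S)`);
* `FrA.exists_b` : every `u ∈ U_H` acts on `V_P` as `up b`; `FrA.exists_ne` : `b i ≠ 0` for some `u`;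
* `FrA.line_le` : the lines are contained in `U_H`;
* `FrA.ez` : `z ∈ Z#` has coordinates `![c, 0]`, `c ≠ 0`; `FrA.exists_full` : full vectors are `P`-conjugate into `Z`;
* `FrA.fix` : `t ∈ H` fixing a full vector: `[V_P, V_P ^ t] = 1`;
* `FrA.two_elt` : `a ∈ V_P`, `b` an involution in `C_G(z)`: `a b` has order a power of 2.
-/

set_option autoImplicit false
set_option Elab.async false

namespace Cfsg.Agent.Omega.NOThreeL.AFour

open Subgroup Cfsg Cfsg.Agent.ZN Cfsg.Agent.Omega.FrameNOFF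
open Cfsg.Agent.ZN.ChoiceBase hiding mem_zc
open Cfsg.Agent.Omega.MinPar Cfsg.Agent.Omega.FFThm Cfsg.Agent.Omega.Node.NO3L Cfsg.Agent.Omega.Frame
open Cfsg.Agent.Omega.NOThreeL.Basic Cfsg.Agent.Omega.NOThreeL.Main
open Cfsg.Agent.MinSimple.VModule (le_normalizer_zl zl_le zc_le_zl zc_le mem_zc zl_comm zl_sq le_o2 o2_isPGroup
  le_normalizer_o2 le_centralizer_zc o2_le normalizer_le_normalizer_zc)
open Cfsg.Agent.Lib.SL2Mat
open Cfsg.Agent.Omega.NoFF.Basic (conj_conj mem_conj conj_le_iff)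
open Cfsg.Agent.Omega.NOThreeL.Pair (conj_eq_of_mem)
open Cfsg.Agent.Omega.NatPair (ap ap_mul ap_one ap_inv_ap ap_ap_inv exists_ap ap_add)
open Cfsg.Agent.Omega.IId (Ind cj_mem cj_mem' e_inj e_one e_inv sg sg_spec fac exists_fac exists_trans line
  mem_line eq_one_of_cent)
open Cfsg.Agent.Omega.NOThreeL.ATwo (Up e_cm b_eq_zero_iff)
open scoped Pointwise

universe u

variable {G : Type u} [Group G] [Finite G] {S : Sylow 2 G} {P H : Subgroup G} {F : Type} [Field F] {k : ℕ}

/-- `C_G(z) ≤ N_G(Z)` for `z ∈ Z#`. -/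
theorem cent_le (D : DataZ (S : Subgroup G)) {z : G} (hz : z ∈ zc (S : Subgroup G)) (hz1 : z ≠ 1) :
    centralizer ({z} : Set G) ≤ normalizer (zc (S : Subgroup G) : Set G) := by
  obtain ⟨-, hzc, hz2⟩ := mem_zc.1 hz
  have hS : (S : Subgroup G) ≤ centralizer ({z} : Set G) := fun s hs =>
    mem_centralizer_singleton_iff.2 (hzc s hs)
  have hL := isLoc_centralizer S hz2 hz1 hS
  by_contra hnot
  obtain ⟨P, hP, hPL, hPn⟩ := hL.exists_not_le S (M := normalizer (zc (S : Subgroup G) : Set G))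
    (inf_le_right.trans (normalizer_le_normalizer_zc _)) hnot
  have h1 := D.cz P ⟨hP, hPn⟩
  have h2 : z ∈ zc (S : Subgroup G) ⊓ centralizer (P : Set G) := by
    refine ⟨hz, mem_centralizer_iff.2 fun p hp => ?_⟩
    exact mem_centralizer_singleton_iff.1 (hPL hp)
  rw [h1, mem_bot] at h2
  exact hz1 h2

/-- The situation. -/
structure FrA (S : Sylow 2 G) (P H : Subgroup G) (M : NatK F (S : Subgroup G) P (zl (S : Subgroup G) P) ⊥ k) : Prop
    where
  hc : IsCharacteristicTwoType G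
  ne : (S : Subgroup G) ≠ ⊥
  D : DataZ (S : Subgroup G)
  E : PairA (S : Subgroup G) P H
  pos : 0 < k

namespace FrA

variable {M : NatK F (S : Subgroup G) P (zl (S : Subgroup G) P) ⊥ k} (h : FrA S P H M)
include h

theorem SP : (S : Subgroup G) ≤ P := h.E.par.le

theorem SH : (S : Subgroup G) ≤ H := h.E.long.loc.le

theorem US : zl (S : Subgroup G) H ≤ (S : Subgroup G) := IsLong.zl_le_S h.hc h.E.long

theorem UP : zl (S : Subgroup G) H ≤ P := h.US.trans h.SP

theorem VS : zl (S : Subgroup G) P ≤ (S : Subgroup G) := IsParS.zl_le_S h.hc h.E.par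

theorem VH : zl (S : Subgroup G) P ≤ H := h.VS.trans h.SH

theorem ab : ∀ u ∈ zl (S : Subgroup G) H, ∀ v ∈ zl (S : Subgroup G) H, u * v = v * u := by
  intro u hu v hv
  have h1 := (NOThreeL.Pair.zl_abel h.hc S h.E.long.loc).1
  exact mem_centralizer_iff.1 (h1 hv) u hu

theorem sq : ∀ u ∈ zl (S : Subgroup G) H, u * u = 1 := by
  intro u hu
  have h1 := (mem_zc.1 (h.E.long.loc.zl_le S h.hc hu)).2.2
  rwa [pow_two] at h1

theorem nrm : ∀ x ∈ H, ∀ u ∈ zl (S : Subgroup G) H, x * u * x⁻¹ ∈ zl (S : Subgroup G) H :=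
  fun x hx u hu => (mem_normalizer_iff.1 (le_normalizer_zl _ _ hx) u).1 hu

theorem quad : Quad (S : Subgroup G) P (zl (S : Subgroup G) H) where
  SP := h.SP
  VS := h.VS
  US := h.US
  SU := h.SH.trans (le_normalizer_zl _ _)
  ab := h.ab
  sq := h.sq

section char2

variable [CharP F 2]

theorem exists_b {u : G} (hu : u ∈ zl (S : Subgroup G) H) : ∃ b : Fin k → F, Up M u b :=
  h.quad.exists_up M hu

omit [CharP F 2] in
/-- `U_H` does not centralise a factor. -/
theorem not_cent (i : Fin k) : ¬ zl (S : Subgroup G) H ≤ centralizer (fac M i : Set G) := by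
  intro hle
  refine h.E.ne' (fun u hu => ?_)
  -- all factors
  have key : ∀ j, u ∈ centralizer (fac M j : Set G) := by
    intro j
    obtain ⟨t, ht, htf⟩ := exists_trans M h.SP i j
    have hu' : t⁻¹ * u * t ∈ zl (S : Subgroup G) H := by
      have h1 := h.nrm t⁻¹ (inv_mem (h.SH ht)) u hu
      rwa [inv_inv] at h1
    have h2 := hle hu'
    rw [← mem_cj, cj_centralizer, htf] at h2
    exact h2
  rw [mem_centralizer_iff]
  intro v hv
  have h1 : u * v * u⁻¹ = v := by
    refine e_inj M (cj_mem (h.UP hu) hv) hv (funext fun i => ?_)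
    obtain ⟨a, ha, hae, hap⟩ := IId.exists_component M hv i
    have h2 := mem_centralizer_iff.1 (key i) a ha
    have h3 : v = a * (a⁻¹ * v) := by group
    have h4 := h.quad.loc M hu i hv ha.1 hae.symm
    rw [h4]
    have h5 : u * a * u⁻¹ = a := by rw [← h2]; group
    rw [h5, hae]
  calc v * u = u * v * u⁻¹ * u := by rw [h1]
    _ = u * v := by group

theorem exists_ne (i : Fin k) : ∃ u ∈ zl (S : Subgroup G) H, ∃ b : Fin k → F, Up M u b ∧ b i ≠ 0 := by
  obtain ⟨u, hu, hn⟩ := SetLike.not_le_iff_exists.1 (h.not_cent i)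
  obtain ⟨b, hb⟩ := h.exists_b hu
  exact ⟨u, hu, b, hb, fun h0 => hn ((b_eq_zero_iff (M := M) (h.UP hu) hb i).1 h0)⟩

/-- The lines are contained in `U_H`. -/
theorem line_le (i : Fin k) {v : G} (hv : v ∈ zl (S : Subgroup G) P) {c : F} (he : M.e v = Pi.single i ![c, 0]) :
    v ∈ zl (S : Subgroup G) H := by
  obtain ⟨u, hu, b, hb, hbi⟩ := h.exists_ne i
  obtain ⟨n, hn, hne⟩ := M.surj (Pi.single i ![0, c / b i])
  have h1 : v = u * n * u⁻¹ * n⁻¹ := by
    refine e_inj M hv (mul_mem (cj_mem (h.UP hu) hn) (inv_mem hn)) (funext fun j => ?_)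
    rw [e_cm (h.UP hu) hn hb j, he, hne]
    by_cases hj : j = i
    · subst hj
      rw [Pi.single_eq_same, Pi.single_eq_same]
      apply NatPair.ext2
      · change c = b j * (c / b j)
        field_simp
      · rfl
    · rw [Pi.single_eq_of_ne hj, Pi.single_eq_of_ne hj]
      apply NatPair.ext2 <;> simp
  rw [h1]
  exact h.quad.cm_mem hu (h.VS hn)

omit [CharP F 2] in
/-- Coordinates of the elements of `Z`. -/
theorem ez {z : G} (hz : z ∈ zc (S : Subgroup G)) (i : Fin k) : M.e z i 1 = 0 := by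
  obtain ⟨t, ht, htA⟩ := M.unip fun _ => 1
  have hzV : z ∈ zl (S : Subgroup G) P := zc_le_zl _ _ hz
  have h1 := e_cm (h.SP ht) hzV htA i
  have h2 := (mem_zc.1 hz).2.1 t ht
  have h3 : t * z * t⁻¹ * z⁻¹ = 1 := by rw [h2]; group
  rw [h3, e_one] at h1
  have := congrFun h1 0
  simpa using this.symm

omit [CharP F 2] in
theorem ez_ne {z : G} (hz : z ∈ zc (S : Subgroup G)) (hz1 : z ≠ 1) (i : Fin k) : M.e z i ≠ 0 := fun h0 =>
  hz1 (eq_one_of_cent M (zc_le_zl _ _ hz) (mem_zc.1 hz).2.1 h0)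

omit [CharP F 2] in
theorem exists_z : ∃ z ∈ zc (S : Subgroup G), z ≠ 1 := by
  have hne : zc (S : Subgroup G) ≠ ⊥ := ZN.ChoiceSit.zc_ne_bot S.isPGroup' h.ne
  by_contra hcon
  push Not at hcon
  exact hne ((eq_bot_iff_forall _).2 hcon)

omit [CharP F 2] in
/-- A full vector is `P`-conjugate to an element of `Z#`. -/
theorem exists_full {v : G} (hv : v ∈ zl (S : Subgroup G) P) (hf : ∀ i, M.e v i ≠ 0) :
    ∃ b ∈ P, ∃ z ∈ zc (S : Subgroup G), z ≠ 1 ∧ b * z * b⁻¹ = v := by
  obtain ⟨z, hz, hz1⟩ := h.exists_z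
  choose A hA using fun i => exists_ap (h.ez_ne hz hz1 i) (hf i)
  obtain ⟨b, hb, hbA⟩ := M.lift A
  refine ⟨b, hb, z, hz, hz1, ?_⟩
  refine e_inj M (cj_mem hb (zc_le_zl _ _ hz)) hv (funext fun i => ?_)
  rw [hbA.1 z (zc_le_zl _ _ hz) i, hA i]

omit [CharP F 2] in
/-- **An element fixing a full vector of `V`**: `V` and `V ^ t` commute. -/
theorem fix {v t : G} (hv : v ∈ zl (S : Subgroup G) P) (hf : ∀ i, M.e v i ≠ 0) (ht : t * v = v * t) :
    ∀ w ∈ zl (S : Subgroup G) P, ∀ w' ∈ zl (S : Subgroup G) P, t * w * t⁻¹ * w' = w' * (t * w * t⁻¹) := by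
  obtain ⟨b, hb, z, hz, hz1, hbz⟩ := h.exists_full hv hf
  -- `n = b⁻¹ t b ∈ N_G(Z)`
  have hn : b⁻¹ * t * b ∈ normalizer (zc (S : Subgroup G) : Set G) := by
    refine cent_le h.D hz hz1 (mem_centralizer_singleton_iff.2 ?_)
    have e : z = b⁻¹ * v * b := by rw [← hbz]; group
    rw [e]
    calc b⁻¹ * t * b * (b⁻¹ * v * b) = b⁻¹ * (t * v) * b := by group
      _ = b⁻¹ * (v * t) * b := by rw [ht]
      _ = b⁻¹ * v * b * (b⁻¹ * t * b) := by group
  have hnQ : b⁻¹ * t * b ∈ normalizer (o2 (CZ (S : Subgroup G)) : Set G) :=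
    (NoFF.LinesPlug.normalizer_le_normalizer_centralizer' _).trans (normalizer_le_normalizer_o2' _) hn
  set n := b⁻¹ * t * b with hnn
  have htb : t * b = b * n := by rw [hnn]; group
  have hQ : MulAut.conj (t * b) • o2 (CZ (S : Subgroup G)) = MulAut.conj b • o2 (CZ (S : Subgroup G)) := by
    rw [htb, ← conj_conj, conj_eq_of_mem hnQ]
  have h1 := Basic.comm_of_le h.hc h.D.toData (x := b) (y := t * b) (by
      rw [hQ]; exact conj_le_iff.2 (WP_le_Q h.D.toData)) (by
      rw [← hQ]; exact conj_le_iff.2 (WP_le_Q h.D.toData))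
  have hVb : MulAut.conj b • zl (S : Subgroup G) P = zl (S : Subgroup G) P :=
    conj_eq_of_mem (le_normalizer_zl _ _ hb)
  have h2 : zl (S : Subgroup G) P ≤ MulAut.conj b • WP (S : Subgroup G) := by
    rw [← hVb]
    exact conj_le_iff.2 (zl_le_WP h.E.par)
  intro w hw w' hw'
  have h3 : t * w * t⁻¹ ∈ MulAut.conj (t * b) • WP (S : Subgroup G) := by
    rw [← conj_conj, mem_conj]
    have e : t⁻¹ * (t * w * t⁻¹) * t = w := by group
    rw [e]
    exact h2 hw
  exact mem_centralizer_iff.1 (h1 (h2 hw')) _ h3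

omit [CharP F 2] in
/-- `a ∈ V`, `b` an involution or 1 in `C_G(z)`. -/
theorem two_elt {a b z : G} (ha : a ∈ zl (S : Subgroup G) P) (hz : z ∈ zc (S : Subgroup G)) (hz1 : z ≠ 1)
    (hbz : b * z = z * b) (hb : b * b = 1) : ∃ n : ℕ, (a * b) ^ 2 ^ n = 1 := by
  have hbn : b ∈ normalizer (o2 (CZ (S : Subgroup G)) : Set G) :=
    (NoFF.LinesPlug.normalizer_le_normalizer_centralizer' _).trans (normalizer_le_normalizer_o2' _)
      (cent_le h.D hz hz1 (mem_centralizer_singleton_iff.2 hbz))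
  have haQ : a ∈ o2 (CZ (S : Subgroup G)) := h.D.low P h.E.par ha
  have h1 : (a * b) ^ 2 ∈ o2 (CZ (S : Subgroup G)) := by
    have hb' : b⁻¹ = b := inv_eq_of_mul_eq_one_left hb
    have e : (a * b) ^ 2 = a * (b * a * b⁻¹) := by
      rw [hb', pow_two]; group
    rw [e]
    exact mul_mem haQ ((mem_normalizer_iff.1 hbn _).1 haQ)
  obtain ⟨n, hn⟩ := o2_isPGroup (CZ (S : Subgroup G)) ⟨_, h1⟩
  refine ⟨n + 1, ?_⟩
  have h2 : ((a * b) ^ 2) ^ 2 ^ n = 1 := congrArg Subtype.val hn
  rw [← pow_mul] at h2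
  rw [pow_succ, mul_comm (2 ^ n) 2]
  exact h2

end char2

end FrA

end Cfsg.Agent.Omega.NOThreeL.AFour

end
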