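import Cfsg.Agent.Omega.NOThreeL.ATwo.Fam
import Cfsg.Agent.Mrg.Omega.NOThreeL.AFour.Frame

-- merged: Cfsg.Agent.Omega.NOThreeL.AFour.Ax
section

/-!
# NO-3L A4: axes, centres and root groups of a not necessarily exact pair (THEOREM EXACT, #16392 II)

`M` normalises the elementary abelian group `U`; `L : (ι → F) → G` is an injective homomorphism with values in all
`K i ≤ U`; `R i = {L (single i c)}`; `N i ≤ M` centralises `K i` and `{[u, t] | t ∈ N i} = R i` for all
`u ∈ U - K i`; `|U : K i| ≤ |F|`, `|F| > 2`. Axes are the `M`-conjugates of the `K i`.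

* `Ax.five` : an axis which meets `Z` contains all `R i`;
* `Ax.six` : an axis which does not contain `Z` contains no full vector `L x`, `x i ≠ 0` for all `i`;
* `Ax.seven` : it contains all `R l` but one, `R i`, and `U = R i × g` (`NN i g`);
* `Ax.noedge`, `Ax.claim`;
* `Ax.exact` : for all `i`, `U = (⋂_{l ≠ i} K l) (K i)` and `|U| = |F| |K i|`.
-/

set_option autoImplicit false
set_option Elab.async false

namespace Cfsg.Agent.Omega.NOThreeL.AFour

open Subgroup Cfsg.Agent.ZN Cfsg.Agent.ZN.ChoiceBase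
open Cfsg.Agent.Omega.NOThreeL.ATwo (YY le_YY YY_le cj_YY_le card_YY_le)

universe u

variable {G : Type u} [Group G] {F : Type*} [Field F] {ι : Type*} [DecidableEq ι]

/-- The family of axes, centres and root groups. -/
structure Ax (M U Z : Subgroup G) (K R N : ι → Subgroup G) (L : (ι → F) → G) : Prop where
  MU : ∀ m ∈ M, ∀ u ∈ U, m * u * m⁻¹ ∈ U
  ab : ∀ u ∈ U, ∀ v ∈ U, u * v = v * u
  sq : ∀ u ∈ U, u * u = 1
  KU : ∀ i, K i ≤ U
  add : ∀ x y, L (x + y) = L x * L y
  inj : Function.Injective L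
  LK : ∀ x i, L x ∈ K i
  memR : ∀ i g, g ∈ R i ↔ ∃ c : F, L (Pi.single i c) = g
  NM : ∀ i, N i ≤ M
  cent : ∀ i, ∀ a ∈ K i, ∀ t ∈ N i, a * t = t * a
  comm : ∀ i, ∀ u ∈ U, ∀ t ∈ N i, u * t * u⁻¹ * t⁻¹ ∈ R i
  full : ∀ i, ∀ u ∈ U, u ∉ K i → ∀ y ∈ R i, ∃ t ∈ N i, u * t * u⁻¹ * t⁻¹ = y
  idx : ∀ i, Nat.card U ≤ Nat.card F * Nat.card (K i)
  trans : ∀ i j, ∃ s ∈ M, cj s (K i) = K j ∧ (∀ z ∈ Z, s * z = z * s) ∧
    ∃ d : F, s * L (Pi.single i 1) * s⁻¹ = L (Pi.single j d)
  ZL : ∀ z ∈ Z, ∃ x, L x = z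
  gen : ∀ A : Subgroup G, (∀ h ∈ M, cj h Z ≤ A) → U ≤ A
  ne : ∀ i, ¬ U ≤ K i
  o2 : ∀ i j, ∀ a ∈ N i, ∀ x ∈ M, ∀ b ∈ cj x (N j), ∀ z ∈ Z, z ≠ 1 → b * z = z * b → ∃ n : ℕ, (a * b) ^ 2 ^ n = 1
  fix : ∀ x : ι → F, (∀ i, x i ≠ 0) → ∀ t ∈ M, t * L x = L x * t → ∀ z ∈ Z, ∀ j, t * z * t⁻¹ ∈ K j

namespace Ax

variable {M U Z : Subgroup G} {K R N : ι → Subgroup G} {L : (ι → F) → G} (h : Ax M U Z K R N L)
include h

theorem L_zero : L 0 = 1 := by
  have h1 := h.add 0 0
  rw [add_zero] at h1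
  exact (mul_eq_left.1 h1.symm)

theorem RK (i j : ι) : R i ≤ K j := by
  intro g hg
  obtain ⟨c, rfl⟩ := (h.memR i g).1 hg
  exact h.LK _ j

theorem L_mem_R (i : ι) (c : F) : L (Pi.single i c) ∈ R i := (h.memR i _).2 ⟨c, rfl⟩

theorem sq' {u : G} (hu : u ∈ U) : u⁻¹ = u := inv_eq_of_mul_eq_one_left (h.sq u hu)

theorem cjU {x : G} (hx : x ∈ M) {u : G} (hu : u ∈ U) : x⁻¹ * u * x ∈ U := by
  have := h.MU x⁻¹ (inv_mem hx) u hu
  rwa [inv_inv] at this

theorem cjKU {x : G} (hx : x ∈ M) (i : ι) : cj x (K i) ≤ U := by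
  intro u hu
  rw [mem_cj] at hu
  have h1 := h.MU x hx _ (h.KU i hu)
  have e : x * (x⁻¹ * u * x) * x⁻¹ = u := by group
  rwa [e] at h1

theorem YY_le_self (B : Subgroup G) : YY M K R B ≤ B := by
  refine YY_le fun i x _ he => ?_
  rw [← he]
  exact cj_mono x (h.RK i i)

/-- Elements of conjugate root groups. -/
theorem comm' {x : G} (hx : x ∈ M) {i : ι} {u t : G} (hu : u ∈ U) (ht : t ∈ cj x (N i)) :
    u * t * u⁻¹ * t⁻¹ ∈ cj x (R i) := by
  rw [mem_cj] at ht ⊢
  have h1 := h.comm i _ (h.cjU hx hu) _ ht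
  have e : x⁻¹ * (u * t * u⁻¹ * t⁻¹) * x =
    x⁻¹ * u * x * (x⁻¹ * t * x) * (x⁻¹ * u * x)⁻¹ * (x⁻¹ * t * x)⁻¹ := by group
  rwa [e]

theorem full' {x : G} (hx : x ∈ M) {i : ι} {u y : G} (hu : u ∈ U) (huA : u ∉ cj x (K i)) (hy : y ∈ cj x (R i)) :
    ∃ t ∈ cj x (N i), u * t * u⁻¹ * t⁻¹ = y := by
  rw [mem_cj] at huA hy
  obtain ⟨t, ht, he⟩ := h.full i _ (h.cjU hx hu) huA _ hy
  refine ⟨x * t * x⁻¹, ?_, ?_⟩
  · rw [mem_cj]
    have e : x⁻¹ * (x * t * x⁻¹) * x = t := by group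
    rwa [e]
  · calc u * (x * t * x⁻¹) * u⁻¹ * (x * t * x⁻¹)⁻¹ =
        x * (x⁻¹ * u * x * t * (x⁻¹ * u * x)⁻¹ * t⁻¹) * x⁻¹ := by group
      _ = y := by rw [he]; group

theorem cent' {x : G} {i : ι} {a t : G} (ha : a ∈ cj x (K i)) (ht : t ∈ cj x (N i)) : a * t = t * a := by
  rw [mem_cj] at ha ht
  have h1 := h.cent i _ ha _ ht
  calc a * t = x * ((x⁻¹ * a * x) * (x⁻¹ * t * x)) * x⁻¹ := by group
    _ = x * ((x⁻¹ * t * x) * (x⁻¹ * a * x)) * x⁻¹ := by rw [h1]
    _ = t * a := by group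

theorem NM' {x : G} (hx : x ∈ M) {i : ι} {t : G} (ht : t ∈ cj x (N i)) : t ∈ M := by
  rw [mem_cj] at ht
  have e : t = x * (x⁻¹ * t * x) * x⁻¹ := by group
  rw [e]
  exact mul_mem (mul_mem hx (h.NM i ht)) (inv_mem hx)

omit h in
/-- A root element whose centre is in `B` normalises `B`. -/
theorem cj_le {t : G} {B : Subgroup G} (hB : B ≤ U) (hc : ∀ u ∈ U, u * t * u⁻¹ * t⁻¹ ∈ B) : cj t B ≤ B := by
  intro b hb
  rw [mem_cj] at hb
  have h1 := hc _ (hB hb)
  have e : t⁻¹ * b * t * t * (t⁻¹ * b * t)⁻¹ * t⁻¹ = t⁻¹ * b * t * b⁻¹ := by group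
  rw [e] at h1
  have h2 := mul_mem (inv_mem h1) hb
  have e2 : (t⁻¹ * b * t * b⁻¹)⁻¹ * (t⁻¹ * b * t) = b := by group
  rwa [e2] at h2

variable [Finite G]

omit h in
theorem cj_eq {t : G} {B : Subgroup G} (hB : B ≤ U) (hc : ∀ u ∈ U, u * t * u⁻¹ * t⁻¹ ∈ B) : cj t B = B :=
  Subgroup.eq_of_le_of_card_ge (cj_le hB hc) (card_cj t B).ge

/-- **Symmetry.** -/
theorem symm {g g' : G} (hg : g ∈ M) (hg' : g' ∈ M) {i j : ι}
    (hle : YY M K R (cj g (K i)) ≤ cj g' (K j)) : YY M K R (cj g' (K j)) ≤ cj g (K i) := by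
  set a := cj g (K i) with ha
  set b := cj g' (K j) with hb
  have hbU : b ≤ U := h.cjKU hg' j
  by_contra hcon
  obtain ⟨f, hf, hfa⟩ := SetLike.not_le_iff_exists.mp hcon
  have hfU : f ∈ U := hbU (h.YY_le_self b hf)
  have key : YY M K R a ≤ YY M K R b := by
    refine YY_le fun l x hx he => ?_
    intro y hy
    obtain ⟨t, ht, hty⟩ := h.full' hx hfU (by rw [he]; exact hfa) hy
    have htM := h.NM' hx ht
    have hcen : cj x (R l) ≤ b := (le_YY hx he).trans hle
    have h2 : cj t b = b := cj_eq hbU fun u hu => hcen (h.comm' hx hu ht)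
    have h3 : cj t (YY M K R b) ≤ YY M K R b := by
      have := cj_YY_le (A := K) (Yc := R) htM b
      rwa [h2] at this
    have h4 : t * f⁻¹ * t⁻¹ ∈ YY M K R b := h3 (by
      rw [mem_cj]
      have e : t⁻¹ * (t * f⁻¹ * t⁻¹) * t = f⁻¹ := by group
      rw [e]
      exact inv_mem hf)
    rw [← hty]
    have e : f * t * f⁻¹ * t⁻¹ = f * (t * f⁻¹ * t⁻¹) := by group
    rw [e]
    exact mul_mem hf h4
  obtain ⟨s, hs, hse, -⟩ := h.trans i j
  have hab : cj (g' * s * g⁻¹) a = b := by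
    rw [ha, hb, cj_cj, ← hse, cj_cj]
    congr 1
    group
  have h5 : Nat.card (YY M K R b) ≤ Nat.card (YY M K R a) := by
    have hba : cj (g' * s * g⁻¹)⁻¹ b = a := by rw [← hab, cj_inv_cj]
    have := card_YY_le (A := K) (Yc := R) (inv_mem (mul_mem (mul_mem hg' hs) (inv_mem hg))) b
    rwa [hba] at this
  have h6 := Subgroup.eq_of_le_of_card_ge key h5
  rw [← h6] at hf
  exact hfa (h.YY_le_self a hf)

omit [Finite G] [DecidableEq ι] h in
/-- If `YY B` is not contained in `A`, some conjugate of an `R j` is not. -/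
theorem exists_not_le {A B : Subgroup G} (hn : ¬ YY M K R B ≤ A) :
    ∃ j, ∃ x ∈ M, cj x (K j) = B ∧ ∃ y ∈ cj x (R j), y ∉ A := by
  by_contra hcon
  push Not at hcon
  exact hn (YY_le fun j x hx he y hy => hcon j x hx he y hy)

omit [Finite G] h in
/-- an element whose third power centralises `r` and whose order is a power of 2. -/
theorem comm_of_three {c r : G} {n : ℕ} (h3 : c ^ 3 * r = r * c ^ 3) (hn : c ^ 2 ^ n = 1) : c * r = r * c := by
  have h1 : c ^ 3 ∈ centralizer ({r} : Set G) := mem_centralizer_singleton_iff.2 h3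
  have h2 : c ^ 2 ^ n ∈ centralizer ({r} : Set G) := by rw [hn]; exact one_mem _
  have hcop : IsCoprime (3 : ℤ) ((2 ^ n : ℕ) : ℤ) := by
    have : Nat.Coprime 3 (2 ^ n) := Nat.Coprime.pow_right n (by decide)
    exact_mod_cast this.isCoprime
  obtain ⟨a, b, hab⟩ := hcop
  have h4 : c = (c ^ 3) ^ a * (c ^ 2 ^ n) ^ b := by
    rw [← zpow_natCast c 3, ← zpow_natCast c (2 ^ n), ← zpow_mul, ← zpow_mul, ← zpow_add]
    have e : ((3 : ℕ) : ℤ) * a + ((2 ^ n : ℕ) : ℤ) * b = 1 := by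
      rw [← hab]; push_cast; ring
    rw [e, zpow_one]
  have h5 : c ∈ centralizer ({r} : Set G) := by
    rw [h4]
    exact mul_mem (zpow_mem h1 a) (zpow_mem h2 b)
  exact mem_centralizer_singleton_iff.1 h5

/-- **(5)** an axis which meets `Z` contains all `R i`. -/
theorem five {x : G} (hx : x ∈ M) {j : ι} {z : G} (hz : z ∈ Z) (hz1 : z ≠ 1) (hzg : z ∈ cj x (K j)) (i : ι) :
    R i ≤ cj x (K j) := by
  by_contra hcon
  obtain ⟨r, hr, hrg⟩ := SetLike.not_le_iff_exists.mp hcon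
  have hrU : r ∈ U := h.KU i (h.RK i i hr)
  have h1 : ¬ YY M K R (cj x (K j)) ≤ K i := by
    intro hle
    have h2 : YY M K R (cj 1 (K i)) ≤ cj x (K j) := h.symm hx (one_mem M) (by rwa [cj_one])
    rw [cj_one] at h2
    have h3 : cj 1 (R i) ≤ YY M K R (K i) := le_YY (one_mem M) (cj_one _)
    rw [cj_one] at h3
    exact hcon (h3.trans h2)
  obtain ⟨l, x', hx', he, y, hy, hyK⟩ := exists_not_le h1
  have hyg : y ∈ cj x' (K l) := cj_mono x' (h.RK l l) hy
  have hyU : y ∈ U := h.cjKU hx' l hyg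
  obtain ⟨b, hb, hby⟩ := h.full' hx' hrU (by rw [he]; exact hrg) hy
  obtain ⟨a, ha, har⟩ := h.full i y hyU hyK r hr
  have hbz : b * z = z * b := (h.cent' (by rw [he]; exact hzg) hb).symm
  obtain ⟨n, hn⟩ := h.o2 i l a ha x' hx' b hb z hz hz1 hbz
  -- the action on `⟨r, y⟩`
  have hry := h.ab r hrU y hyU
  have e1 : b * r * b⁻¹ = y * r := by
    have h2 : b * r⁻¹ * b⁻¹ = r⁻¹ * y := by rw [← hby]; group
    have h3 : b * r * b⁻¹ = (b * r⁻¹ * b⁻¹)⁻¹ := by group
    rw [h3, h2, mul_inv_rev, inv_inv, h.sq' hyU]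
  have e2 : b * y * b⁻¹ = y := by
    have := h.cent' hyg hb
    rw [← this]; group
  have e3 : a * y * a⁻¹ = r * y := by
    have h2 : a * y⁻¹ * a⁻¹ = y⁻¹ * r := by rw [← har]; group
    have h3 : a * y * a⁻¹ = (a * y⁻¹ * a⁻¹)⁻¹ := by group
    rw [h3, h2, mul_inv_rev, inv_inv, h.sq' hrU]
  have e4 : a * r * a⁻¹ = r := by
    have := h.cent i r (h.RK i i hr) a ha
    rw [← this]; group
  set c := a * b with hc
  have c1 : c * r * c⁻¹ = y := by
    calc c * r * c⁻¹ = a * (b * r * b⁻¹) * a⁻¹ := by rw [hc]; group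
      _ = (a * y * a⁻¹) * (a * r * a⁻¹) := by rw [e1]; group
      _ = r * y * r := by rw [e3, e4]
      _ = y := by rw [hry, mul_assoc, h.sq r hrU, mul_one]
  have c2 : c * y * c⁻¹ = r * y := by
    calc c * y * c⁻¹ = a * (b * y * b⁻¹) * a⁻¹ := by rw [hc]; group
      _ = r * y := by rw [e2, e3]
  have c3 : c ^ 3 * r = r * c ^ 3 := by
    have h2 : c ^ 3 * r * (c ^ 3)⁻¹ = r := by
      have e : c ^ 3 = c * c * c := by rw [pow_succ, pow_two]
      calc c ^ 3 * r * (c ^ 3)⁻¹ = c * (c * (c * r * c⁻¹) * c⁻¹) * c⁻¹ := by rw [e]; group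
        _ = (c * r * c⁻¹) * (c * y * c⁻¹) := by
          rw [c1, c2]
          calc c * (r * y) * c⁻¹ = (c * r * c⁻¹) * (c * y * c⁻¹) := by group
            _ = y * (r * y) := by rw [c1, c2]
        _ = r := by
          rw [c1, c2, ← mul_assoc, ← hry, mul_assoc, h.sq y hyU, mul_one]
    calc c ^ 3 * r = c ^ 3 * r * (c ^ 3)⁻¹ * c ^ 3 := by group
      _ = r * c ^ 3 := by rw [h2]
  have h2 := comm_of_three c3 hn
  have h3 : r = y := by
    rw [← c1, h2]; group
  exact hrg (by rw [h3, ← he]; exact hyg)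

omit [Finite G] in
/-- A subgroup containing all components contains `L x`. -/
theorem L_mem [Fintype ι] {A : Subgroup G} {x : ι → F} (hA : ∀ i, L (Pi.single i (x i)) ∈ A) : L x ∈ A := by
  have key : ∀ s : Finset ι, L (∑ i ∈ s, Pi.single i (x i)) ∈ A := by
    intro s
    induction s using Finset.induction_on with
    | empty => rw [Finset.sum_empty, h.L_zero]; exact one_mem _
    | insert a s ha ih => rw [Finset.sum_insert ha, h.add]; exact mul_mem (hA a) ih
  have h1 := key Finset.univ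
  rwa [Finset.univ_sum_single] at h1

/-- **(6)** an axis which does not contain `Z` contains no full vector. -/
theorem six [Fintype ι] {x : G} (hx : x ∈ M) {j : ι} (hZ : ¬ Z ≤ cj x (K j)) {v : ι → F} (hv : ∀ i, v i ≠ 0) :
    L v ∉ cj x (K j) := by
  intro hmem
  obtain ⟨z, hz, hzg⟩ := SetLike.not_le_iff_exists.mp hZ
  obtain ⟨w, hw⟩ := h.ZL z hz
  have hzU : z ∈ U := by rw [← hw]; exact h.KU j (h.LK w j)
  apply hZ
  have key : ∀ i, YY M K R (cj x (K j)) ≤ K i := by
    intro i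
    refine YY_le fun l x' hx' he y hy => ?_
    obtain ⟨t, ht, hty⟩ := h.full' hx' hzU (by rw [he]; exact hzg) hy
    have h1 : t * L v = L v * t := (h.cent' (by rw [he]; exact hmem) ht).symm
    have h2 := h.fix v hv t (h.NM' hx' ht) h1 z hz i
    have h3 : z ∈ K i := by rw [← hw]; exact h.LK w i
    have h4 := mul_mem h3 (inv_mem h2)
    have e : z * (t * z * t⁻¹)⁻¹ = z * t * z⁻¹ * t⁻¹ := by group
    rw [e, hty] at h4
    exact h4
  have h5 : ∀ i, R i ≤ cj x (K j) := by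
    intro i
    have h2 : YY M K R (cj 1 (K i)) ≤ cj x (K j) := h.symm hx (one_mem M) (by rw [cj_one]; exact key i)
    rw [cj_one] at h2
    have h3 : cj 1 (R i) ≤ YY M K R (K i) := le_YY (one_mem M) (cj_one _)
    rw [cj_one] at h3
    exact h3.trans h2
  intro z' hz'
  obtain ⟨w', hw'⟩ := h.ZL z' hz'
  rw [← hw']
  exact h.L_mem fun i => h5 i (h.L_mem_R i _)

omit [Finite G] in
theorem L_neg (x : ι → F) : L (-x) = (L x)⁻¹ := by
  have h1 := h.add x (-x)
  rw [add_neg_cancel, h.L_zero] at h1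
  exact (inv_eq_of_mul_eq_one_right h1.symm).symm

omit [Finite G] [DecidableEq ι] h in
theorem exists_ne [Finite F] (hF : 2 < Nat.card F) (y : F) : ∃ w : F, w ≠ 0 ∧ w + y ≠ 0 := by
  classical
  by_contra hcon
  push Not at hcon
  have : Fintype F := Fintype.ofFinite F
  have h1 : (Finset.univ : Finset F) ⊆ {0, -y} := by
    intro w _
    rw [Finset.mem_insert, Finset.mem_singleton]
    by_cases h0 : w = 0
    · exact Or.inl h0
    · exact Or.inr (eq_neg_of_add_eq_zero_left (hcon w h0))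
  have h2 := Finset.card_le_card h1
  have h3 : ({0, -y} : Finset F).card ≤ 2 := Finset.card_le_two
  rw [Finset.card_univ, ← Nat.card_eq_fintype_card] at h2
  omega

/-- The axes which contain all `R l`, `l ≠ i`, and are complements of `R i`. -/
def NN (U : Subgroup G) (L : (ι → F) → G) (i : ι) (g : Subgroup G) : Prop :=
  (∀ x : ι → F, x i = 0 → L x ∈ g) ∧ (∀ c : F, c ≠ 0 → L (Pi.single i c) ∉ g) ∧
    ∀ u ∈ U, ∃ c : F, ∃ a ∈ g, u = L (Pi.single i c) * a

/-- **(7)** -/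
theorem seven [Fintype ι] [Finite F] (hF : 2 < Nat.card F) {x : G} (hx : x ∈ M) {j : ι}
    (hZ : ¬ Z ≤ cj x (K j)) :
    (∃ i, NN U L i (cj x (K j))) ∧ Nat.card U = Nat.card F * Nat.card (K j) := by
  set g := cj x (K j) with hg
  have hgU : g ≤ U := h.cjKU hx j
  have six := fun (v : ι → F) (hv : ∀ i, v i ≠ 0) => h.six hx hZ hv
  rw [← hg] at six
  obtain ⟨i, hi⟩ : ∃ i, ∀ c : F, c ≠ 0 → L (Pi.single i c) ∉ g := by
    by_contra hcon
    push Not at hcon
    choose v hv hvg using hcon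
    exact six v hv (h.L_mem hvg)
  -- `U = R i × g`
  have hLU : ∀ v, L v ∈ U := fun v => h.KU i (h.LK v i)
  let f : F → U ⧸ g.subgroupOf U := fun c => QuotientGroup.mk ⟨L (Pi.single i c), hLU _⟩
  have hinj : Function.Injective f := by
    intro c d hcd
    have h1 := QuotientGroup.eq.1 hcd
    rw [mem_subgroupOf] at h1
    change (L (Pi.single i c))⁻¹ * L (Pi.single i d) ∈ g at h1
    rw [← h.L_neg, ← h.add, ← Pi.single_neg, ← Pi.single_add] at h1
    by_contra hne
    exact hi _ (fun h0 => hne (by rw [neg_add_eq_zero] at h0; exact h0)) h1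
  have hcg : Nat.card (g.subgroupOf U) = Nat.card (K j) := by
    rw [Nat.card_congr (subgroupOfEquivOfLe hgU).toEquiv, hg, card_cj]
  have hcU : Nat.card U = Nat.card (U ⧸ g.subgroupOf U) * Nat.card (K j) := by
    rw [card_eq_card_quotient_mul_card_subgroup (g.subgroupOf U), hcg]
  have hle : Nat.card (U ⧸ g.subgroupOf U) ≤ Nat.card F := by
    have h1 := h.idx j
    rw [hcU] at h1
    exact Nat.le_of_mul_le_mul_right h1 Nat.card_pos
  have hbij := hinj.bijective_of_nat_card_le hle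
  have hsur : ∀ u ∈ U, ∃ c : F, ∃ a ∈ g, u = L (Pi.single i c) * a := by
    intro u hu
    obtain ⟨c, hc⟩ := hbij.2 (QuotientGroup.mk ⟨u, hu⟩)
    have h1 := QuotientGroup.eq.1 hc
    rw [mem_subgroupOf] at h1
    exact ⟨c, _, h1, by
      change u = L (Pi.single i c) * ((L (Pi.single i c))⁻¹ * u)
      group⟩
  have hfull : ∀ y : ι → F, y i = 0 → (∀ l, l ≠ i → y l ≠ 0) → L y ∈ g := by
    intro y hy hyl
    obtain ⟨c, a, ha, he⟩ := hsur (L y) (hLU y)
    by_cases hc : c = 0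
    · rw [he, hc, Pi.single_zero, h.L_zero, one_mul]
      exact ha
    · exfalso
      have h1 : a = L (-Pi.single i c + y) := by rw [h.add, h.L_neg, he]; group
      refine six (-Pi.single i c + y) (fun l => ?_) (by rw [← h1]; exact ha)
      by_cases hl : l = i
      · rw [hl, Pi.add_apply, Pi.neg_apply, Pi.single_eq_same, hy, add_zero]
        exact neg_ne_zero.2 hc
      · rw [Pi.add_apply, Pi.neg_apply, Pi.single_eq_of_ne hl, neg_zero, zero_add]
        exact hyl l hl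
  refine ⟨⟨i, fun y hy => ?_, hi, hsur⟩, ?_⟩
  · choose w hw hwy using fun l => exists_ne hF (y l)
    have h1 : L (Function.update w i 0) ∈ g := by
      refine hfull _ (Function.update_self _ _ _) fun l hl => ?_
      rw [Function.update_of_ne hl]
      exact hw l
    have h2 : L (Function.update w i 0 + y) ∈ g := by
      refine hfull _ ?_ fun l hl => ?_
      · rw [Pi.add_apply, Function.update_self, hy, add_zero]
      · rw [Pi.add_apply, Function.update_of_ne hl]
        exact hwy l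
    rw [h.add] at h2
    exact (mul_mem_cancel_left h1).1 h2
  · rw [hcU]
    congr 1
    exact (Nat.card_eq_of_bijective f hbij).symm

omit [Finite G] in
/-- A root element acts on `r`: `t r t⁻¹ = [r, t] r`. -/
theorem conj_root {r t y : G} (hy : y ∈ U) (ht : r * t * r⁻¹ * t⁻¹ = y) : t * r * t⁻¹ = y * r := by
  have h2 : t * r⁻¹ * t⁻¹ = r⁻¹ * y := by rw [← ht]; group
  have h3 : t * r * t⁻¹ = (t * r⁻¹ * t⁻¹)⁻¹ := by group
  rw [h3, h2, mul_inv_rev, inv_inv, h.sq' hy]

/-- **(8)** no edge between `NN i` and `NN i'`. -/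
theorem noedge [Fintype ι] [CharP F 2] {x2 x3 : G} (hx3 : x3 ∈ M)
    {j2 j3 i i' : ι} (hne : i ≠ i') (h2 : NN U L i' (cj x2 (K j2))) (h3 : NN U L i (cj x3 (K j3))) :
    YY M K R (cj x2 (K j2)) ≤ cj x3 (K j3) := by
  set g2 := cj x2 (K j2) with hg2
  set g3 := cj x3 (K j3) with hg3
  by_contra hcon
  obtain ⟨l, x, hx, he, y, hy, hyg⟩ := exists_not_le hcon
  have hyU : y ∈ U := h.cjKU hx l (cj_mono x (h.RK l l) hy)
  have hLU : ∀ v, L v ∈ U := fun v => h.KU i (h.LK v i)
  obtain ⟨c, a, ha, hya⟩ := h3.2.2 y hyU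
  have hc : c ≠ 0 := by
    rintro rfl
    apply hyg
    rw [hya, Pi.single_zero, h.L_zero, one_mul]
    exact ha
  obtain ⟨t, ht, hty⟩ := h.full' hx (hLU (Pi.single i' 1)) (by rw [he]; exact h2.2.1 1 one_ne_zero) hy
  have htM := h.NM' hx ht
  -- the full vector
  set v : ι → F := Function.update (fun _ => 1) i c with hv
  have hvf : ∀ l, v l ≠ 0 := by
    intro l
    by_cases hl : l = i
    · rw [hv, hl, Function.update_self]; exact hc
    · rw [hv, Function.update_of_ne hl]; exact one_ne_zero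
  have hfixL : ∀ w : ι → F, w i' = 0 → t * L w * t⁻¹ = L w := by
    intro w hw
    have h1 : L w ∈ cj x (K l) := by rw [he]; exact h2.1 w hw
    have h4 := h.cent' h1 ht
    rw [← h4]; group
  have htv : t * L v * t⁻¹ = y * L v := by
    have e1 : v = Pi.single i' 1 + (v - Pi.single i' 1) := by abel
    have h4 : (v - Pi.single i' (1 : F) : ι → F) i' = 0 := by
      rw [Pi.sub_apply, Pi.single_eq_same, hv, Function.update_of_ne hne.symm, sub_self]
    have h5 := hfixL _ h4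
    have h6 := h.conj_root hyU hty
    calc t * L v * t⁻¹ = (t * L (Pi.single i' 1) * t⁻¹) * (t * L (v - Pi.single i' 1) * t⁻¹) := by
          rw [e1, h.add, ← e1]; group
      _ = y * (L (Pi.single i' 1) * L (v - Pi.single i' 1)) := by rw [h5, h6, mul_assoc]
      _ = y * L v := by rw [← h.add, ← e1]
  have htg : t * L v * t⁻¹ ∈ g3 := by
    rw [htv, hya, h.ab _ (hLU _) a (h.cjKU hx3 j3 ha), mul_assoc, ← h.add]
    refine mul_mem ha (h3.1 _ ?_)
    rw [Pi.add_apply, Pi.single_eq_same, hv, Function.update_self]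
    exact CharTwo.add_self_eq_zero c
  -- the axis `g3 ^ (t⁻¹)`
  have hmem : L v ∈ cj (t⁻¹ * x3) (K j3) := by
    rw [← cj_cj, ← hg3, mem_cj, inv_inv]
    exact htg
  have hx' : t⁻¹ * x3 ∈ M := mul_mem (inv_mem htM) hx3
  have hZ : Z ≤ cj (t⁻¹ * x3) (K j3) := by
    by_contra hZ
    exact h.six hx' hZ hvf hmem
  -- `Z ≠ 1`
  obtain ⟨z, hz, hz1⟩ : ∃ z ∈ Z, z ≠ 1 := by
    by_contra hc0
    push Not at hc0
    refine h.ne i (h.gen _ fun m _ w hw => ?_)
    rw [mem_cj] at hw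
    have h5 := hc0 _ hw
    have h6 : w = 1 := by
      calc w = m * (m⁻¹ * w * m) * m⁻¹ := by group
        _ = 1 := by rw [h5]; group
    rw [h6]
    exact one_mem _
  have h5 := h.five hx' hz hz1 (hZ hz) i (h.L_mem_R i 1)
  rw [← cj_cj, ← hg3, mem_cj, inv_inv] at h5
  have h6 : (Pi.single i (1 : F) : ι → F) i' = 0 := Pi.single_eq_of_ne hne.symm _
  rw [hfixL _ h6] at h5
  exact h3.2.1 1 one_ne_zero h5

omit [Finite G] in
/-- `Z ≠ 1` -/
theorem exists_z (i : ι) : ∃ z ∈ Z, z ≠ 1 := by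
  by_contra hc0
  push Not at hc0
  refine h.ne i (h.gen _ fun m _ w hw => ?_)
  rw [mem_cj] at hw
  have h5 := hc0 _ hw
  have h6 : w = 1 := by
    calc w = m * (m⁻¹ * w * m) * m⁻¹ := by group
      _ = 1 := by rw [h5]; group
  rw [h6]
  exact one_mem _

/-- If `NN i g`, then `Z` is not contained in `g`. -/
theorem not_le_of_NN {x : G} (hx : x ∈ M) {i j : ι} (hn : NN U L i (cj x (K j))) : ¬ Z ≤ cj x (K j) := by
  intro hle
  obtain ⟨z, hz, hz1⟩ := h.exists_z i
  exact hn.2.1 1 one_ne_zero (h.five hx hz hz1 (hle hz) i (h.L_mem_R i 1))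

/-- `NN i` is not empty. -/
theorem exists_NN [Fintype ι] [Finite F] (hF : 2 < Nat.card F) (i : ι) :
    ∃ x ∈ M, ∃ j, NN U L i (cj x (K j)) := by
  -- some axis does not contain `Z`
  obtain ⟨x, hx, hZ⟩ : ∃ x ∈ M, ¬ Z ≤ cj x (K i) := by
    by_contra hcon
    push Not at hcon
    refine h.ne i (h.gen _ fun m hm => ?_)
    have h1 := hcon m⁻¹ (inv_mem hm)
    have h2 := cj_mono m h1
    rwa [cj_cj_inv] at h2
  obtain ⟨m, hm⟩ := (h.seven hF hx hZ).1
  obtain ⟨s, hs, hsK, hsZ, d, hd⟩ := h.trans m i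
  refine ⟨s * x, mul_mem hs hx, i, ?_⟩
  have hZ' : ¬ Z ≤ cj (s * x) (K i) := by
    intro hle
    apply hZ
    intro z hz
    have h1 := hle hz
    rw [← cj_cj, mem_cj] at h1
    have e : s⁻¹ * z * s = z := by
      have := hsZ z hz
      calc s⁻¹ * z * s = s⁻¹ * (z * s) := by group
        _ = s⁻¹ * (s * z) := by rw [this]
        _ = z := by group
    rwa [e] at h1
  obtain ⟨m', hm'⟩ := (h.seven hF (mul_mem hs hx) hZ').1
  by_cases hmi : m' = i
  · rw [hmi] at hm'
    exact hm'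
  · exfalso
    have h1 : L (Pi.single i d) ∈ cj (s * x) (K i) := hm'.1 _ (Pi.single_eq_of_ne hmi _)
    rw [← hd, ← cj_cj, mem_cj] at h1
    have e : s⁻¹ * (s * L (Pi.single m 1) * s⁻¹) * s = L (Pi.single m 1) := by group
    rw [e] at h1
    exact hm.2.1 1 one_ne_zero h1

/-- **(9)** the centre of `g ∈ NN i` is contained in `K l`, `l ≠ i`. -/
theorem claim [Fintype ι] [Finite F] [CharP F 2] (hF : 2 < Nat.card F) {x : G} (hx : x ∈ M) {i j l : ι}
    (hn : NN U L i (cj x (K j))) (hl : l ≠ i) : YY M K R (cj x (K j)) ≤ K l := by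
  set g := cj x (K j) with hg
  by_contra hcon
  obtain ⟨x2, hx2, j2, h2⟩ := h.exists_NN hF l
  set g2 := cj x2 (K j2) with hg2
  -- `g2` and `K l` are adjacent
  have h3 : ¬ YY M K R g2 ≤ K l := by
    intro hle
    have h4 : YY M K R (cj 1 (K l)) ≤ g2 := h.symm hx2 (one_mem M) (by rwa [cj_one])
    rw [cj_one] at h4
    have h5 : cj 1 (R l) ≤ YY M K R (K l) := le_YY (one_mem M) (cj_one _)
    rw [cj_one] at h5
    exact h2.2.1 1 one_ne_zero (h4 (h5 (h.L_mem_R l 1)))
  obtain ⟨m, x', hx', he, w, hw, hwK⟩ := exists_not_le h3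
  obtain ⟨z, hz, hzg⟩ := SetLike.not_le_iff_exists.mp (h.not_le_of_NN hx2 h2)
  obtain ⟨zz, hzz⟩ := h.ZL z hz
  have hzU : z ∈ U := by rw [← hzz]; exact h.KU l (h.LK zz l)
  have hzK : z ∈ K l := by rw [← hzz]; exact h.LK zz l
  obtain ⟨t, ht, htw⟩ := h.full' hx' hzU (by rw [he]; exact hzg) hw
  have htM := h.NM' hx' ht
  -- `K l ^ (t⁻¹) ∈ NN l`
  have h4 : z ∉ cj t⁻¹ (K l) := by
    intro h5
    rw [mem_cj, inv_inv] at h5
    apply hwK
    have e : w = z * (t * z * t⁻¹)⁻¹ := by rw [← htw]; group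
    rw [e]
    exact mul_mem hzK (inv_mem h5)
  have h5 : ¬ Z ≤ cj t⁻¹ (K l) := fun hle => h4 (hle hz)
  obtain ⟨m', hm'⟩ := (h.seven hF (inv_mem htM) h5).1
  have hml : m' = l := by
    by_contra hne
    have h6 : L (Pi.single m' (1 : F)) ∈ cj x' (K m) := by
      rw [he]
      exact h2.1 _ (Pi.single_eq_of_ne (Ne.symm hne) _)
    have h7 := h.cent' h6 ht
    apply hm'.2.1 1 one_ne_zero
    rw [mem_cj, inv_inv, ← h7]
    have e : L (Pi.single m' (1 : F)) * t * t⁻¹ = L (Pi.single m' 1) := by group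
    rw [e]
    exact h.LK _ _
  rw [hml] at hm'
  -- `t` normalises `g`
  have h6 : YY M K R g2 ≤ g := h.noedge hx hl.symm h2 hn
  have h7 : cj t⁻¹ g = g := by
    refine cj_eq (h.cjKU hx j) fun u hu => h6 (le_YY hx' he (h.comm' hx' hu (inv_mem ht)))
  have h8 : YY M K R g ≤ cj t⁻¹ (K l) := h.noedge (inv_mem htM) hl hn hm'
  have h9 : cj t⁻¹ (YY M K R g) ≤ YY M K R g := by
    have := cj_YY_le (A := K) (Yc := R) (inv_mem htM) g
    rwa [h7] at this
  apply hcon
  intro y hy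
  have h10 : t⁻¹ * y * t ∈ YY M K R g := h9 (by
    rw [mem_cj, inv_inv]
    have e : t * (t⁻¹ * y * t) * t⁻¹ = y := by group
    rwa [e])
  have h11 := h8 h10
  rw [mem_cj, inv_inv] at h11
  have e : t * (t⁻¹ * y * t) * t⁻¹ = y := by group
  rwa [e] at h11

/-- **THEOREM EXACT**, abstract form. -/
theorem exact [Fintype ι] [Finite F] [CharP F 2] (hF : 2 < Nat.card F) (i : ι) :
    (∀ u ∈ U, ∃ y ∈ U, (∀ l, l ≠ i → y ∈ K l) ∧ y⁻¹ * u ∈ K i) ∧ Nat.card U = Nat.card F * Nat.card (K i) := by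
  obtain ⟨x, hx, j, hn⟩ := h.exists_NN hF i
  set g := cj x (K j) with hg
  have h3 : ¬ YY M K R g ≤ K i := by
    intro hle
    have h4 : YY M K R (cj 1 (K i)) ≤ g := h.symm hx (one_mem M) (by rwa [cj_one])
    rw [cj_one] at h4
    have h5 : cj 1 (R i) ≤ YY M K R (K i) := le_YY (one_mem M) (cj_one _)
    rw [cj_one] at h5
    exact hn.2.1 1 one_ne_zero (h4 (h5 (h.L_mem_R i 1)))
  obtain ⟨m, x', hx', he, w, hw, hwK⟩ := exists_not_le h3
  -- the axis `K i` with respect to the conjugate under `x'`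
  rw [mem_cj] at hw
  obtain ⟨c, hc⟩ := (h.memR m _).1 hw
  have hw' : L (Pi.single m c) ∉ cj x'⁻¹ (K i) := by
    intro h5
    rw [mem_cj, inv_inv, hc] at h5
    have e : x' * (x'⁻¹ * w * x') * x'⁻¹ = w := by group
    rw [e] at h5
    exact hwK h5
  have h5 : ¬ Z ≤ cj x'⁻¹ (K i) := by
    intro hle
    obtain ⟨z, hz, hz1⟩ := h.exists_z i
    exact hw' (h.five (inv_mem hx') hz hz1 (hle hz) m (h.L_mem_R m c))
  obtain ⟨⟨m', hm'⟩, hcard⟩ := h.seven hF (inv_mem hx') h5
  have hmm : m' = m := by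
    by_contra hne
    exact hw' (hm'.1 _ (Pi.single_eq_of_ne hne _))
  rw [hmm] at hm'
  refine ⟨fun u hu => ?_, hcard⟩
  obtain ⟨d, a, ha, he2⟩ := hm'.2.2 _ (h.cjU hx' hu)
  have hyR : x' * L (Pi.single m d) * x'⁻¹ ∈ cj x' (R m) := by
    rw [mem_cj]
    have e : x'⁻¹ * (x' * L (Pi.single m d) * x'⁻¹) * x' = L (Pi.single m d) := by group
    rw [e]
    exact h.L_mem_R m d
  have hyY := le_YY hx' he hyR
  refine ⟨x' * L (Pi.single m d) * x'⁻¹, h.MU x' hx' _ (h.KU i (h.LK _ i)), fun l hl => h.claim hF hx hn hl hyY, ?_⟩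
  rw [mem_cj, inv_inv] at ha
  have e : (x' * L (Pi.single m d) * x'⁻¹)⁻¹ * u = x' * a * x'⁻¹ := by
    have e3 : u = x' * (x'⁻¹ * u * x') * x'⁻¹ := by group
    rw [e3, he2]
    group
  rw [e]
  exact ha

end Ax

end Cfsg.Agent.Omega.NOThreeL.AFour

end

-- merged: Cfsg.Agent.Mrg.Omega.NOThreeL.AFour.Big
section

/-!
# NO-3L A4, `q > 2`: `U_H` induces all upper unitriangular matrices (THEOREM EXACT, #16740 (A4a))

* `FrA.ax` : the family `C_U(N_i)`, `line M i`, `N_i = fac M i` is an `Ax`;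
* `FrA.ind` : `Ind M (zl S H) Set.univ`;
* `off_of_ind` : then `U_H` offends on `V_P`.
-/

set_option autoImplicit false
set_option Elab.async false

namespace Cfsg.Agent.Omega.NOThreeL.AFour

open Subgroup Cfsg Cfsg.Agent.ZN Cfsg.Agent.Omega.FrameNOFF
open Cfsg.Agent.ZN.ChoiceBase hiding mem_zc
open Cfsg.Agent.Omega.MinPar Cfsg.Agent.Omega.FFThm Cfsg.Agent.Omega.Node.NO3L Cfsg.Agent.Omega.Frame
open Cfsg.Agent.Omega.NOThreeL.Basic Cfsg.Agent.Omega.NOThreeL.Main
open Cfsg.Agent.MinSimple.VModule (le_normalizer_zl zl_le zc_le_zl zc_le mem_zc)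
open Cfsg.Agent.Lib.SL2Mat
open Cfsg.Agent.Omega.NoFF.Basic (conj_conj mem_conj conj_le_iff)
open Cfsg.Agent.Omega.NatPair (ap ap_mul ap_one exists_ap ap_add)
open Cfsg.Agent.Omega.IId (Ind cj_mem cj_mem' e_inj e_one e_inv e_eq_zero sg sg_spec fac exists_fac exists_trans line
  mem_line eq_one_of_cent conj_line ext_fac)
open Cfsg.Agent.Omega.NOThreeL.ATwo (Up e_cm b_eq_zero_iff)
open scoped Pointwise

universe u

variable {G : Type u} [Group G] [Finite G] {S : Sylow 2 G} {P H : Subgroup G} {F : Type} [Field F] {k : ℕ}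

section vec

variable {S P : Subgroup G} (M : NatK F S P (zl S P) ⊥ k)

/-- The element of `V` with coordinates `![x i, 0]`. -/
noncomputable def vec (x : Fin k → F) : G := (M.surj fun i => ![x i, 0]).choose

omit [Finite G] in
theorem vec_mem (x : Fin k → F) : vec M x ∈ zl S P := (M.surj fun i => ![x i, 0]).choose_spec.1

omit [Finite G] in
theorem e_vec (x : Fin k → F) (i : Fin k) : M.e (vec M x) i = ![x i, 0] :=
  congrFun (M.surj fun i => ![x i, 0]).choose_spec.2 i

omit [Finite G] in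
theorem vec_add (x y : Fin k → F) : vec M (x + y) = vec M x * vec M y := by
  refine e_inj M (vec_mem M _) (mul_mem (vec_mem M x) (vec_mem M y)) (funext fun i => ?_)
  rw [M.mul _ (vec_mem M x) _ (vec_mem M y), Pi.add_apply, e_vec, e_vec, e_vec]
  apply NatPair.ext2 <;> simp

omit [Finite G] in
theorem vec_inj : Function.Injective (vec M) := by
  intro x y hxy
  funext i
  have h1 := e_vec M x i
  rw [hxy, e_vec] at h1
  exact (congrFun h1 0).symm

omit [Finite G] in
theorem vec_single_mem (i : Fin k) (c : F) : vec M (Pi.single i c) ∈ line M i := by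
  rw [mem_line]
  refine ⟨⟨vec_mem M _, fun j hj => ?_⟩, ?_⟩
  · rw [e_vec, Pi.single_eq_of_ne hj]
    apply NatPair.ext2 <;> simp
  · rw [e_vec]; rfl

omit [Finite G] in
theorem mem_line_iff (i : Fin k) (g : G) : g ∈ line M i ↔ ∃ c : F, vec M (Pi.single i c) = g := by
  constructor
  · intro hg
    rw [mem_line] at hg
    refine ⟨M.e g i 0, ext_fac M (i := i) ((mem_line M).1 (vec_single_mem M i _)).1 hg.1 ?_⟩
    rw [e_vec, Pi.single_eq_same]
    apply NatPair.ext2
    · rfl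
    · exact hg.2.symm
  · rintro ⟨c, rfl⟩
    exact vec_single_mem M i c

omit [Finite G] in
theorem eq_vec {v : G} (hv : v ∈ zl S P) (h1 : ∀ i, M.e v i 1 = 0) : vec M (fun i => M.e v i 0) = v := by
  refine e_inj M (vec_mem M _) hv (funext fun i => ?_)
  rw [e_vec]
  apply NatPair.ext2
  · rfl
  · exact (h1 i).symm

end vec

namespace FrA

variable {M : NatK F (S : Subgroup G) P (zl (S : Subgroup G) P) ⊥ k} (h : FrA S P H M)
include h

variable [CharP F 2]

theorem vec_single (i : Fin k) (c : F) : vec M (Pi.single i c) ∈ zl (S : Subgroup G) H := by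
  refine h.line_le i (vec_mem M _) (c := c) (funext fun j => ?_)
  rw [e_vec]
  by_cases hj : j = i
  · rw [hj, Pi.single_eq_same, Pi.single_eq_same]
  · rw [Pi.single_eq_of_ne hj, Pi.single_eq_of_ne hj]
    apply NatPair.ext2 <;> simp

theorem vec_mem_U (x : Fin k → F) : vec M x ∈ zl (S : Subgroup G) H := by
  have key : ∀ s : Finset (Fin k), vec M (∑ i ∈ s, Pi.single i (x i)) ∈ zl (S : Subgroup G) H := by
    intro s
    induction s using Finset.induction_on with
    | empty =>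
      rw [Finset.sum_empty]
      have h1 : vec M 0 = 1 := by
        rw [← e_eq_zero M (vec_mem M _)]
        funext i
        rw [e_vec]
        apply NatPair.ext2 <;> simp
      rw [h1]
      exact one_mem _
    | insert a s ha ih =>
      rw [Finset.sum_insert ha, vec_add]
      exact mul_mem (h.vec_single a _) ih
  have h1 := key Finset.univ
  rwa [Finset.univ_sum_single] at h1

/-- `|U : C_U(N_i)| ≤ q` -/
theorem idx [Finite F] (i : Fin k) : Nat.card (zl (S : Subgroup G) H) ≤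
    Nat.card F * Nat.card (zl (S : Subgroup G) H ⊓ centralizer (fac M i : Set G) : Subgroup G) := by
  set U := zl (S : Subgroup G) H with hU
  set K := U ⊓ centralizer (fac M i : Set G) with hK
  have hKU : K ≤ U := inf_le_left
  choose! b hb using fun (u : G) (hu : u ∈ U) => h.exists_b hu
  let f : (U ⧸ K.subgroupOf U) → F := fun q => b (q.out : U) i
  have hinj : Function.Injective f := by
    intro q q' hqq
    have hq := hb _ q.out.2
    have hq' := hb _ q'.out.2
    have h1 : b (q.out : U) i = b (q'.out : U) i := hqq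
    have h2 : ((q.out : U) : G)⁻¹ * (q'.out : U) ∈ K := by
      refine ⟨U.mul_mem (U.inv_mem q.out.2) q'.out.2, ?_⟩
      have h3 := ATwo.Up.mul (h.UP q'.out.2) (ATwo.Up.inv (h.UP q.out.2) hq) hq'
      refine (b_eq_zero_iff (M := M) (mul_mem (inv_mem (h.UP q.out.2)) (h.UP q'.out.2)) h3 i).1 ?_
      rw [Pi.add_apply, Pi.neg_apply, h1, neg_add_cancel]
    have h3 : (QuotientGroup.mk (q.out : U) : U ⧸ K.subgroupOf U) = QuotientGroup.mk (q'.out : U) := by
      rw [QuotientGroup.eq, mem_subgroupOf]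
      exact h2
    rwa [QuotientGroup.out_eq', QuotientGroup.out_eq'] at h3
  have h1 := Nat.card_le_card_of_injective f hinj
  have hcg : Nat.card (K.subgroupOf U) = Nat.card K := Nat.card_congr (subgroupOfEquivOfLe hKU).toEquiv
  rw [card_eq_card_quotient_mul_card_subgroup (K.subgroupOf U), hcg]
  exact Nat.mul_le_mul_right _ h1

/-- **The family.** -/
theorem ax [Finite F] : Ax H (zl (S : Subgroup G) H) (zc (S : Subgroup G))
    (fun i => zl (S : Subgroup G) H ⊓ centralizer (fac M i : Set G)) (fun i => line M i) (fun i => fac M i)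
    (vec M) where
  MU := h.nrm
  ab := h.ab
  sq := h.sq
  KU := fun i => inf_le_left
  add := vec_add M
  inj := vec_inj M
  LK := fun x i => ⟨h.vec_mem_U x, mem_centralizer_iff.2 fun v hv => IId.comm M hv.1 (vec_mem M x)⟩
  memR := mem_line_iff M
  NM := fun i v hv => h.VH hv.1
  cent := fun i a ha t ht => (mem_centralizer_iff.1 ha.2 t ht).symm
  comm := by
    intro i u hu t ht
    obtain ⟨b, hb⟩ := h.exists_b hu
    have h1 := e_cm (h.UP hu) ht.1 hb
    rw [mem_line]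
    refine ⟨⟨mul_mem (cj_mem (h.UP hu) ht.1) (inv_mem ht.1), fun j hj => ?_⟩, ?_⟩
    · rw [h1 j, ht.2 j hj]
      apply NatPair.ext2 <;> simp
    · rw [h1 i]; rfl
  full := by
    intro i u hu huK y hy
    obtain ⟨b, hb⟩ := h.exists_b hu
    have hbi : b i ≠ 0 := fun h0 => huK ⟨hu, (b_eq_zero_iff (M := M) (h.UP hu) hb i).1 h0⟩
    rw [mem_line] at hy
    obtain ⟨t, ht, hte⟩ := exists_fac M i ![0, M.e y i 0 / b i]
    refine ⟨t, ht, ?_⟩
    refine e_inj M (mul_mem (cj_mem (h.UP hu) ht.1) (inv_mem ht.1)) hy.1.1 (funext fun j => ?_)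
    rw [e_cm (h.UP hu) ht.1 hb j]
    by_cases hj : j = i
    · subst hj
      rw [hte]
      apply NatPair.ext2
      · change b j * (M.e y j 0 / b j) = _
        field_simp
      · exact hy.2.symm
    · rw [ht.2 j hj, hy.1.2 j hj]
      apply NatPair.ext2 <;> simp
  idx := h.idx
  trans := by
    intro i j
    obtain ⟨t, ht, htf⟩ := exists_trans M h.SP i j
    refine ⟨t, h.SH ht, ?_, fun z hz => (mem_zc.1 hz).2.1 t ht, ?_⟩
    · rw [cj_inf, cj_centralizer, htf, cj_eq_of_mem_normalizer (le_normalizer_zl _ _ (h.SH ht))]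
    · have h1 : t * vec M (Pi.single i 1) * t⁻¹ ∈ line M j := by
        have h2 := conj_line M h.SP ht i
        have h3 : sg M (h.SP ht) i = j := (IId.sg_eq_iff M (h.SP ht)).2 htf
        rw [h3] at h2
        rw [← h2, mem_cj]
        have e : t⁻¹ * (t * vec M (Pi.single i 1) * t⁻¹) * t = vec M (Pi.single i 1) := by group
        rw [e]
        exact vec_single_mem M i 1
      obtain ⟨d, hd⟩ := (mem_line_iff M j _).1 h1
      exact ⟨d, hd.symm⟩
  ZL := fun z hz => ⟨_, eq_vec M (zc_le_zl _ _ hz) (h.ez hz)⟩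
  gen := by
    intro A hA
    refine iSup_le fun g => ?_
    intro w hw
    refine hA g g.2 ?_
    rw [mem_cj]
    exact mem_conj.1 hw
  ne := by
    intro i hle
    exact h.not_cent i (hle.trans inf_le_right)
  o2 := by
    intro i j a ha x hx b hb z hz hz1 hbz
    refine h.two_elt ha.1 hz hz1 hbz ?_
    rw [mem_cj] at hb
    have h1 := IId.sq M hb.1
    calc b * b = x * ((x⁻¹ * b * x) * (x⁻¹ * b * x)) * x⁻¹ := by group
      _ = 1 := by rw [h1]; group
  fix := by
    intro x hx t ht htx z hz j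
    refine ⟨h.nrm t ht z (zc_le_zl _ _ hz), mem_centralizer_iff.2 fun v hv => ?_⟩
    have hf : ∀ i, M.e (vec M x) i ≠ 0 := by
      intro i h0
      rw [e_vec] at h0
      exact hx i (congrFun h0 0)
    exact (h.fix (vec_mem M x) hf htx z (zc_le_zl _ _ hz) v hv.1).symm

/-- **THEOREM EXACT**: `U_H` induces all upper unitriangular elements of `SL₂(F)^k`. -/
theorem ind [Finite F] (hF : 2 < Nat.card F) : Ind M (zl (S : Subgroup G) H) Set.univ := by
  set U := zl (S : Subgroup G) H with hU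
  have hax := h.ax
  -- an element moving only the factor `i`
  have key : ∀ (i : Fin k) (c : F), ∃ u ∈ U, Up M u (Pi.single i c) := by
    intro i c
    obtain ⟨hex, hcard⟩ := hax.exact hF i
    choose! b hb using fun (u : G) (hu : u ∈ U) => h.exists_b hu
    set K := U ⊓ centralizer (fac M i : Set G) with hK
    have hKU : K ≤ U := inf_le_left
    -- `b i` is onto
    let f : (U ⧸ K.subgroupOf U) → F := fun q => b (q.out : U) i
    have hinj : Function.Injective f := by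
      intro q q' hqq
      have hq := hb _ q.out.2
      have hq' := hb _ q'.out.2
      have h1 : b (q.out : U) i = b (q'.out : U) i := hqq
      have h2 : ((q.out : U) : G)⁻¹ * (q'.out : U) ∈ K := by
        refine ⟨U.mul_mem (U.inv_mem q.out.2) q'.out.2, ?_⟩
        have h3 := ATwo.Up.mul (h.UP q'.out.2) (ATwo.Up.inv (h.UP q.out.2) hq) hq'
        refine (b_eq_zero_iff (M := M) (mul_mem (inv_mem (h.UP q.out.2)) (h.UP q'.out.2)) h3 i).1 ?_
        rw [Pi.add_apply, Pi.neg_apply, h1, neg_add_cancel]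
      have h3 : (QuotientGroup.mk (q.out : U) : U ⧸ K.subgroupOf U) = QuotientGroup.mk (q'.out : U) := by
        rw [QuotientGroup.eq, mem_subgroupOf]
        exact h2
      rwa [QuotientGroup.out_eq', QuotientGroup.out_eq'] at h3
    have hcg : Nat.card (K.subgroupOf U) = Nat.card K := Nat.card_congr (subgroupOfEquivOfLe hKU).toEquiv
    have hq : Nat.card F ≤ Nat.card (U ⧸ K.subgroupOf U) := by
      rw [card_eq_card_quotient_mul_card_subgroup (K.subgroupOf U), hcg] at hcard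
      exact (Nat.eq_of_mul_eq_mul_right Nat.card_pos hcard).ge
    have hbij := hinj.bijective_of_nat_card_le hq
    obtain ⟨q, hq⟩ := hbij.2 c
    obtain ⟨y, hy, hyl, hyi⟩ := hex _ q.out.2
    refine ⟨y, hy, ?_⟩
    have h1 : b y = Pi.single i c := by
      funext l
      by_cases hl : l = i
      · subst hl
        rw [Pi.single_eq_same]
        have h3 := ATwo.Up.mul (h.UP q.out.2) (ATwo.Up.inv (h.UP hy) (hb y hy)) (hb _ q.out.2)
        have h4 := (b_eq_zero_iff (M := M) (mul_mem (inv_mem (h.UP hy)) (h.UP q.out.2)) h3 l).2 hyi.2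
        rw [Pi.add_apply, Pi.neg_apply, neg_add_eq_zero] at h4
        rw [h4]
        exact hq
      · rw [Pi.single_eq_of_ne hl]
        exact (b_eq_zero_iff (M := M) (h.UP hy) (hb y hy) l).2 (hyl l hl).2
    rw [← h1]
    exact hb y hy
  refine ⟨fun a ha => ?_, fun b _ => ?_⟩
  · obtain ⟨b, hb⟩ := h.exists_b ha
    exact ⟨b, fun i hi => (hi (Set.mem_univ i)).elim, hb⟩
  · have key2 : ∀ s : Finset (Fin k), ∃ u ∈ U, Up M u (∑ i ∈ s, Pi.single i (b i)) := by
      intro s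
      induction s using Finset.induction_on with
      | empty =>
        refine ⟨1, one_mem _, ?_⟩
        rw [Finset.sum_empty]
        exact ATwo.up_of_cent (M := M) (one_mem _)
      | insert a s ha ih =>
        obtain ⟨u, hu, hub⟩ := ih
        obtain ⟨v, hv, hvb⟩ := key a (b a)
        refine ⟨v * u, mul_mem hv hu, ?_⟩
        rw [Finset.sum_insert ha]
        exact ATwo.Up.mul (h.UP hu) hvb hub
    obtain ⟨u, hu, hub⟩ := key2 Finset.univ
    rw [Finset.univ_sum_single] at hub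
    exact ⟨u, hu, hub⟩

end FrA

end Cfsg.Agent.Omega.NOThreeL.AFour

end
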