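import Cfsg.Agent.Mrg.Omega.NOThreeL.AFour.Big
import Cfsg.Agent.Mrg.Omega.NOThreeL.ATwo.MainQ
import Cfsg.Agent.Mrg.Omega.FrameI
import Cfsg.Agent.Mrg.Omega.NOThreeL.AOne
import Cfsg.Agent.Mrg.Omega.FFMutual
import Cfsg.Agent.Mrg.Omega.NOThreeL.AFour.NotFF
import Cfsg.Agent.Mrg.Omega.Spread.ElatOf

-- merged: Cfsg.Agent.Mrg.Omega.NOThreeL.AFour.Off
section

/-!
# NO-3L A4: if `U_H` induces all upper unitriangular matrices, the pair is exact

* `FrA.off_of_ind` : `Ind M (zl S H) univ` gives `Off V_P U_H`;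
* `no_nat_big` : there is no pair (A) with `V_P` a sum of natural `SL₂(F)`-modules, `|F| > 2` (K-free; input
  `FFThm.Stmt` only for `NoOver`).
-/

set_option autoImplicit false
set_option Elab.async false

namespace Cfsg.Agent.Omega.NOThreeL.AFour

open Subgroup Cfsg Cfsg.Agent.ZN Cfsg.Agent.Omega.FrameNOFF
open Cfsg.Agent.ZN.ChoiceBase hiding mem_zc
open Cfsg.Agent.Omega.MinPar Cfsg.Agent.Omega.FFThm Cfsg.Agent.Omega.Node.NO3L Cfsg.Agent.Omega.Frame
open Cfsg.Agent.Omega.NOThreeL.Basic Cfsg.Agent.Omega.NOThreeL.Main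
open Cfsg.Agent.Lib.SL2Mat
open Cfsg.Agent.Omega.NatPair (ap ap_mul ap_one exists_ap ap_add)
open Cfsg.Agent.Omega.IId (Ind cj_mem cj_mem' e_inj e_one e_inv e_eq_zero)
open Cfsg.Agent.Omega.NOThreeL.ATwo (Up e_cm b_eq_zero_iff)

universe u

variable {G : Type u} [Group G] [Finite G] {S : Sylow 2 G} {P H : Subgroup G} {F : Type} [Field F] {k : ℕ}

namespace FrA

variable {M : NatK F (S : Subgroup G) P (zl (S : Subgroup G) P) ⊥ k} (h : FrA S P H M)
include h

variable [CharP F 2]

theorem off_of_ind [Finite F] (hI : Ind M (zl (S : Subgroup G) H) Set.univ) :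
    Off (zl (S : Subgroup G) P) (zl (S : Subgroup G) H) := by
  refine ⟨FFThm.elem_zl h.hc S h.E.long.loc, h.E.ne', ?_⟩
  rw [FFThm.relIndex_le_iff]
  set U := zl (S : Subgroup G) H with hU
  -- `|V : C_V(U)| ≤ q ^ k`
  have h1 : (centralizer (U : Set G)).relIndex (zl (S : Subgroup G) P) ≤ Nat.card (Fin k → F) := by
    let f : (zl (S : Subgroup G) P ⧸ (centralizer (U : Set G)).subgroupOf (zl (S : Subgroup G) P)) → (Fin k → F) := fun q i => M.e (q.out : zl (S : Subgroup G) P) i 1
    have hinj : Function.Injective f := by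
      intro q q' hqq
      have h1 : ∀ i, M.e (q.out : zl (S : Subgroup G) P) i 1 = M.e (q'.out : zl (S : Subgroup G) P) i 1 := fun i => congrFun hqq i
      have h2 : ((q.out : zl (S : Subgroup G) P) : G)⁻¹ * (q'.out : zl (S : Subgroup G) P) ∈ centralizer (U : Set G) := by
        set v := ((q.out : zl (S : Subgroup G) P) : G)⁻¹ * (q'.out : zl (S : Subgroup G) P) with hv
        have hvV : v ∈ zl (S : Subgroup G) P := (zl (S : Subgroup G) P).mul_mem ((zl (S : Subgroup G) P).inv_mem q.out.2) q'.out.2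
        have hv1 : ∀ i, M.e v i 1 = 0 := by
          intro i
          rw [hv, M.mul _ ((zl (S : Subgroup G) P).inv_mem q.out.2) _ q'.out.2, Pi.add_apply, Pi.add_apply, e_inv M q.out.2,
            Pi.neg_apply, Pi.neg_apply, h1 i, neg_add_cancel]
        refine mem_centralizer_iff.2 fun u hu => ?_
        obtain ⟨b, -, hb⟩ := hI.act u hu
        have h3 : u * v * u⁻¹ * v⁻¹ = 1 := by
          rw [← e_eq_zero M (mul_mem (cj_mem (h.UP hu) hvV) (inv_mem hvV))]
          funext i
          rw [e_cm (h.UP hu) hvV hb i, hv1 i, mul_zero]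
          apply NatPair.ext2 <;> rfl
        calc u * v = u * v * u⁻¹ * v⁻¹ * (v * u) := by group
          _ = v * u := by rw [h3, one_mul]
      have h3 : (QuotientGroup.mk (q.out : zl (S : Subgroup G) P) : zl (S : Subgroup G) P ⧸ (centralizer (U : Set G)).subgroupOf (zl (S : Subgroup G) P)) =
          QuotientGroup.mk (q'.out : zl (S : Subgroup G) P) := by
        rw [QuotientGroup.eq, mem_subgroupOf]
        exact h2
      rwa [QuotientGroup.out_eq', QuotientGroup.out_eq'] at h3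
    exact Nat.card_le_card_of_injective f hinj
  -- `q ^ k ≤ |U : C_U(V)|`
  refine h1.trans ?_
  choose u hu hub using fun b : Fin k → F => hI.ex b fun _ hi => (hi (Set.mem_univ _)).elim
  let f : (Fin k → F) → (U ⧸ (centralizer (zl (S : Subgroup G) P : Set G)).subgroupOf U) := fun b => QuotientGroup.mk ⟨u b, hu b⟩
  have hinj : Function.Injective f := by
    intro b b' hbb
    have h2 := QuotientGroup.eq.1 hbb
    rw [mem_subgroupOf] at h2
    change (u b)⁻¹ * u b' ∈ centralizer (zl (S : Subgroup G) P : Set G) at h2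
    have h3 : Up M ((u b)⁻¹ * u b') (-b + b') :=
      ATwo.Up.mul (h.UP (hu b')) (ATwo.Up.inv (h.UP (hu b)) (hub b)) (hub b')
    have h4 := ATwo.Up.eq h3 (ATwo.up_of_cent (M := M) h2)
    rwa [neg_add_eq_zero] at h4
  exact Nat.card_le_card_of_injective f hinj

end FrA

/-- **No pair (A) with `V_P` a sum of natural `SL₂(F)`-modules, `|F| > 2`.** -/
theorem no_nat_big (hFF : FFThm.Stmt.{u}) (hG : Frame.Ctx G) {S : Sylow 2 G} (D : DataZ (S : Subgroup G))
    {P H : Subgroup G} (E : PairA (S : Subgroup G) P H) {F : Type} [Field F] [Finite F] [CharP F 2] {k : ℕ}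
    (hk : 0 < k) (hF : 2 < Nat.card F)
    (M : NatK F (S : Subgroup G) P (zl (S : Subgroup G) P) (FrameFF.cv (S : Subgroup G) P) k) : False := by
  have h1 := DataZ.cv_eq hG.char2 D E.par
  have M' := M
  rw [h1] at M'
  have h : FrA S P H M' := ⟨hG.char2, hG.sylow_ne_bot S, D, E, hk⟩
  have hoff := h.off_of_ind (h.ind hF)
  obtain ⟨hn, -, hoff', he⟩ := PairA.off_of hG.char2 hFF E hoff
  exact ATwo.false_of_exact hG D ⟨E, hoff, hoff', hn, he⟩ hk M

end Cfsg.Agent.Omega.NOThreeL.AFour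

end

-- merged: Cfsg.Agent.Mrg.Omega.NOThreeL.AFour.Main
section

/-!
# NO-3L: the socket A4 from two pieces (#16740)

* `NatTwo` : no pair (A) with `V_P` a sum of natural `SL₂(2)`-modules (#16392 (2), helper185, helper850);
* `NotFF` : if `V_P` is not FF (module sense), `V_P ≤ O₂(C_G(Z))`, then `V_P` centralises every `U_H`
  (chain of LEMMA J + NL + LEMMA V; helper456, helper850);
* `caseA_false` : there is no pair of type (A); `a4_of` : the socket `Main.A4`; `caseA` : `Main.CaseAS`.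
-/

set_option autoImplicit false
set_option Elab.async false

namespace Cfsg.Agent.Omega.NOThreeL.AFour

open Subgroup Cfsg Cfsg.Agent.ZN Cfsg.Agent.Omega.FrameNOFF
open Cfsg.Agent.Omega.MinPar Cfsg.Agent.Omega.FFThm Cfsg.Agent.Omega.Node.NO3L Cfsg.Agent.Omega.Frame
open Cfsg.Agent.Omega.NOThreeL.Basic Cfsg.Agent.Omega.NOThreeL.Main
open Cfsg.Agent.Omega.FrameFF (cv)

universe u

/-- No pair (A) with `V_P` a sum of natural `SL₂(2)`-modules. -/
def NatTwo : Prop :=
  ∀ (G : Type u) [Group G] [Finite G], Ctx G → ∀ (S : Sylow 2 G), DataZ (S : Subgroup G) →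
    ∀ P H : Subgroup G, PairA (S : Subgroup G) P H →
      ∀ (F : Type) [Field F] [Finite F] [CharP F 2] (k : ℕ), 0 < k → Nat.card F = 2 →
        NatK F (S : Subgroup G) P (zl (S : Subgroup G) P) (cv (S : Subgroup G) P) k → False

/-- `V_P` not FF in the module sense: `[V_P, U_H] = 1` for all long `H`. -/
def NotFF : Prop :=
  ∀ (G : Type u) [Group G] [Finite G], Ctx G → ∀ (S : Sylow 2 G), Data (S : Subgroup G) →
    ∀ P H : Subgroup G, IsParS (S : Subgroup G) P → IsLong (S : Subgroup G) H →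
      (∀ A : Subgroup G, A ≤ P → ¬ OffM (zl (S : Subgroup G) P) A) →
        zl (S : Subgroup G) P ≤ centralizer (zl (S : Subgroup G) H : Set G)

/-- **There is no pair of type (A)**, `C_Z(P) = 1` for all `P ∈ P*(S)`. -/
theorem caseA_false (hFF : FFThm.Stmt.{u}) (hFFM : FFThm.StmtM.{u}) (h2 : NatTwo.{u}) (hN : NotFF.{u})
    {G : Type u} [Group G] [Finite G] (hG : Ctx G) {S : Sylow 2 G} (D : DataZ (S : Subgroup G)) {P H : Subgroup G}
    (E : PairA (S : Subgroup G) P H) : False := by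
  by_cases hoff : ∃ A : Subgroup G, A ≤ P ∧ OffM (zl (S : Subgroup G) P) A
  · obtain ⟨-, hC⟩ := hFFM G (S : Subgroup G) P (syl_of_sylow S E.par.le) E.par.toIsMinPar
      (E.par.isLoc.char2 S hG.char2) hoff
    rcases hC with ⟨F, _, _, _, k, hk, ⟨M⟩⟩ | ⟨k, m, hk, hm, ⟨M⟩⟩
    · have hq : 1 < Nat.card F := Finite.one_lt_card
      rcases Nat.lt_or_ge 2 (Nat.card F) with hq2 | hq2
      · exact no_nat_big hFF hG D E hk hq2 M.toNatK
      · exact h2 G hG S D P H E F k hk (by omega) M.toNatK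
    · exact AFourSym.no_sym hG.char2 D E hm M.toSymK
  · push Not at hoff
    exact E.ne (hN G hG S D.toData P H E.par E.long hoff)

/-- **The socket A4.** -/
theorem a4_of (hFF : FFThm.Stmt.{u}) (hFFM : FFThm.StmtM.{u}) (h2 : NatTwo.{u}) (hN : NotFF.{u}) (K : Cls.{u}) :
    Main.A4 K := by
  intro G _ _ hG _ S _ D P H E _ _
  exact (caseA_false hFF hFFM h2 hN hG D E).elim

/-- **Case (A).** -/
theorem caseA_of (hFF : FFThm.Stmt.{u}) (hFFM : FFThm.StmtM.{u}) (h2 : NatTwo.{u}) (hN : NotFF.{u})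
    (K : Cls.{u}) : CaseAS K := by
  intro G _ _ hG _ S _ D hA
  obtain ⟨P, H, E⟩ := caseA_iff.1 hA
  exact (caseA_false hFF hFFM h2 hN hG D E).elim

end Cfsg.Agent.Omega.NOThreeL.AFour

end

-- merged: Cfsg.Agent.Mrg.Omega.NOThreeL.AFour.NotFFPlug
section

/-!
# NO-3L: `AFour.OffAll` and the socket `AFour.NotFF` are theorems
-/

set_option autoImplicit false

namespace Cfsg.Agent.Omega.NOThreeL.AFour

open Subgroup Cfsg Cfsg.Agent.ZN Cfsg.Agent.Omega.FrameNOFF

universe u

/-- THEOREM OFF for all `Hyp V F` (helper304). -/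
theorem offAll : OffAll.{u} := fun _ _ _ _ _ h _ hF hE => h.off_all hF hE

/-- **The socket `NotFF`** (helper456). -/
theorem notFF : NotFF.{u} := fun _ _ _ hG _ D _ _ hP hH hn => comm_of_notFF offAll hG.char2 D hP hn hH

end Cfsg.Agent.Omega.NOThreeL.AFour

end
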