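import Cfsg.Agent.Mrg.Omega.NOThreeL.IndepTwo
import Cfsg.Agent.Mrg.Omega.NOThreeL.ATwo.Lin
import Cfsg.Agent.Mrg.Omega.NOThreeL.AFour.Frame

-- merged: Cfsg.Agent.Mrg.Omega.NOThreeL.AFour.TwoLin
section

/-!
# NO-3L A4, `q = 2` (helper884 #16392 (2)): `IndepTwo.Dat` in multiplicative notation

* `GDat` : the hypotheses of `IndepTwo.Dat` for an elementary abelian normal subgroup `U` of `H`;
* `GDat.exists_apply` : all values of the functionals occur.
-/

set_option autoImplicit false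
set_option Elab.async false

namespace Cfsg.Agent.Omega.NOThreeL.AFour

open Subgroup
open Cfsg.Agent.Omega.NOThreeL.ATwo (TvBy)

universe u

variable {G : Type u} [Group G]

/-- The hypotheses of `IndepTwo.Dat` in multiplicative notation. -/
structure GDat (H U S Q V : Subgroup G) (z : G) {k : ℕ} (φ : Fin k → G → ZMod 2) (c : Fin k → G)
    (lam : Fin k → G → ZMod 2) : Prop where
  SH : S ≤ H
  nrm : ∀ x ∈ H, ∀ u ∈ U, x * u * x⁻¹ ∈ U
  ab : ∀ u ∈ U, ∀ v ∈ U, u * v = v * u
  sq : ∀ u ∈ U, u * u = 1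
  zU : z ∈ U
  gen : ∀ A : Subgroup G, (∀ x ∈ H, x * z * x⁻¹ ∈ A) → U ≤ A
  core : ∀ T : Subgroup G, T ≤ U → S ≤ normalizer (T : Set G) → T ≠ ⊥ → z ∈ T
  add : ∀ i, ∀ u ∈ U, ∀ v ∈ U, φ i (u * v) = φ i u + φ i v
  ne : ∀ i, ∃ u ∈ U, φ i u ≠ 0
  cU : ∀ i, c i ∈ U
  c0 : ∀ i, φ i (c i) = 0
  cV : ∀ i, c i ∈ V
  lam1 : ∀ i, lam i 1 = 0
  lamc : ∀ i j, lam i (c j) = if i = j then 1 else 0
  lamm : ∀ i j, ∀ v ∈ V, lam i (c j * v) = lam i (c j) + lam i v
  tr : ∀ i, ∃ x ∈ H, x ∈ Q ∧ TvBy U (φ i) (c i) x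
  QP : ∀ x ∈ Q, ∃ n : ℕ, x ^ (2 ^ n) = 1
  Qn : ∀ x ∈ H, x * z = z * x → ∀ y ∈ Q, x * y * x⁻¹ ∈ Q
  trans : ∀ i j, ∃ s ∈ S, (∀ u ∈ U, φ i (s⁻¹ * u * s) = φ j u) ∧ s * c i * s⁻¹ = c j

namespace GDat

variable {H U S Q V : Subgroup G} {z : G} {k : ℕ} {φ : Fin k → G → ZMod 2} {c : Fin k → G} {lam : Fin k → G → ZMod 2}

/-- All values of the functionals occur. -/
theorem exists_apply [Finite G] (h : GDat H U S Q V z φ c lam) (b : Fin k → ZMod 2) : ∃ u ∈ U, ∀ i, φ i u = b i := by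
  classical
  let i1 : AddCommGroup (Additive U) :=
    { (inferInstance : AddGroup (Additive U)) with
      add_comm := fun v w => congrArg Additive.ofMul (Subtype.ext (h.ab _ (Additive.toMul v).2 _ (Additive.toMul w).2)) }
  let i2 : Module (ZMod 2) (Additive U) := AddCommGroup.zmodModule (n := 2) fun v => by
    rw [two_nsmul]
    exact congrArg Additive.ofMul (Subtype.ext (h.sq _ (Additive.toMul v).2))
  let i3 : DistribMulAction H (Additive U) :=
    { smul := fun x v => Additive.ofMul ⟨x * (Additive.toMul v : U) * (x : G)⁻¹, h.nrm x x.2 _ (Additive.toMul v).2⟩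
      one_smul := fun v => congrArg Additive.ofMul (Subtype.ext (by
        change ((1 : H) : G) * (Additive.toMul v : U) * ((1 : H) : G)⁻¹ = (Additive.toMul v : U)
        rw [OneMemClass.coe_one, one_mul, inv_one, mul_one]))
      mul_smul := fun x y v => congrArg Additive.ofMul (Subtype.ext (by
        change ((x * y : H) : G) * (Additive.toMul v : U) * ((x * y : H) : G)⁻¹ =
          x * (y * (Additive.toMul v : U) * (y : G)⁻¹) * (x : G)⁻¹
        rw [Subgroup.coe_mul]; group))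
      smul_zero := fun x => congrArg Additive.ofMul (Subtype.ext (by
        change (x : G) * ((1 : U) : G) * (x : G)⁻¹ = ((1 : U) : G)
        rw [OneMemClass.coe_one, mul_one, mul_inv_cancel]))
      smul_add := fun x v w => congrArg Additive.ofMul (Subtype.ext (by
        change (x : G) * ((Additive.toMul v * Additive.toMul w : U) : G) * (x : G)⁻¹ =
          (x * (Additive.toMul v : U) * (x : G)⁻¹) * (x * (Additive.toMul w : U) * (x : G)⁻¹)
        rw [Subgroup.coe_mul]; group)) }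
  have i4 : Finite (Additive U) := inferInstanceAs (Finite U)
  -- equality of elements of `Additive U`
  have ext' : ∀ {v w : Additive U}, ((Additive.toMul v : U) : G) = ((Additive.toMul w : U) : G) → v = w :=
    fun hvw => congrArg Additive.ofMul (Subtype.ext hvw)
  let f : Fin k → (Additive U →+ ZMod 2) := fun i =>
    { toFun := fun v => φ i (Additive.toMul v : U)
      map_zero' := by
        have h1 := h.add i 1 (one_mem _) 1 (one_mem _)
        rw [mul_one] at h1
        exact left_eq_add.1 h1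
      map_add' := fun v w => h.add i _ (Additive.toMul v).2 _ (Additive.toMul w).2 }
  have hf : ∀ i (v : U), f i (Additive.ofMul v) = φ i (v : G) := fun _ _ => rfl
  let cc : Fin k → Additive U := fun i => Additive.ofMul ⟨c i, h.cU i⟩
  let zz : Additive U := Additive.ofMul ⟨z, h.zU⟩
  -- transvections
  have tv : ∀ i (e : U) (x : G) (hx : x ∈ H), TvBy U (φ i) e x → ∀ u : Additive U,
      (⟨x, hx⟩ : H) • u = u + f i u • (Additive.ofMul e : Additive U) := by
    intro i e x hx hT u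
    apply ext'
    have h1 := hT _ (Additive.toMul u).2
    have h2 : f i u = φ i ((Additive.toMul u : U) : G) := rfl
    have h3 : ((Additive.toMul ((⟨x, hx⟩ : H) • u) : U) : G) = x * (Additive.toMul u : U) * x⁻¹ := rfl
    rw [h3, h1]
    rcases ThmL.z2 (f i u) with h0 | h0
    · rw [if_pos (by rw [← h2, h0]), h0, zero_smul, add_zero]
    · rw [if_neg (by rw [← h2, h0]; decide), h0, one_smul]
      rfl
  have act_f : ∀ (s : H) i j, (∀ u ∈ U, φ i ((s : G)⁻¹ * u * s) = φ j u) → ThmL.act s (f i) = f j := by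
    intro s i j hs
    refine AddMonoidHom.ext fun u => ?_
    rw [ThmL.act_apply]
    have h1 := hs _ (Additive.toMul u).2
    have h2 : ((Additive.toMul (s⁻¹ • u) : U) : G) = ((s⁻¹ : H) : G) * (Additive.toMul u : U) * ((s⁻¹ : H) : G)⁻¹ := rfl
    have h3 : f i (s⁻¹ • u) = φ i ((Additive.toMul (s⁻¹ • u) : U) : G) := rfl
    rw [h3, h2, InvMemClass.coe_inv, inv_inv, h1]
    rfl
  have z_iff : ∀ s : H, s • zz = zz → (s : G) * z = z * s := by
    intro s hs
    have h1 : (s : G) * z * (s : G)⁻¹ = z := congrArg Subtype.val (congrArg Additive.toMul hs)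
    calc (s : G) * z = s * z * (s : G)⁻¹ * s := by group
      _ = z * s := by rw [h1]
  -- sums of the `cc i`
  have hsum : ∀ I : Finset (Fin k), ((Additive.toMul (∑ i ∈ I, cc i) : U) : G) ∈ V ∧
      ∀ j, lam j ((Additive.toMul (∑ i ∈ I, cc i) : U) : G) = if j ∈ I then 1 else 0 := by
    intro I
    induction I using Finset.induction_on with
    | empty =>
      refine ⟨one_mem V, fun j => ?_⟩
      rw [if_neg (Finset.notMem_empty j)]
      exact h.lam1 j
    | insert a I ha ih =>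
      obtain ⟨h1, h2⟩ := ih
      have e : ((Additive.toMul (∑ i ∈ insert a I, cc i) : U) : G) = c a * ((Additive.toMul (∑ i ∈ I, cc i) : U) : G) := by
        rw [Finset.sum_insert ha]
        rfl
      rw [e]
      refine ⟨mul_mem (h.cV a) h1, fun j => ?_⟩
      rw [h.lamm j a _ h1, h2, h.lamc]
      by_cases hja : j = a
      · subst hja
        rw [if_pos rfl, if_neg ha, if_pos (Finset.mem_insert_self _ _), add_zero]
      · rw [if_neg hja, zero_add]
        by_cases hj : j ∈ I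
        · rw [if_pos hj, if_pos (Finset.mem_insert_of_mem hj)]
        · rw [if_neg hj, if_neg (by rw [Finset.mem_insert]; tauto)]
  have D : IndepTwo.Dat (X := H) f cc zz := by
    refine ⟨?_, ?_, ?_, ?_, ?_, ?_⟩
    · intro N hN
      by_cases h0 : N = ⊥
      · exact Or.inl h0
      · right
        let T : Subgroup G :=
          { carrier := {t | ∃ ht : t ∈ U, (Additive.ofMul (⟨t, ht⟩ : U) : Additive U) ∈ N}
            one_mem' := ⟨one_mem _, N.zero_mem⟩
            mul_mem' := by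
              rintro a b ⟨ha, ha'⟩ ⟨hb, hb'⟩
              exact ⟨mul_mem ha hb, N.add_mem ha' hb'⟩
            inv_mem' := by
              rintro a ⟨ha, ha'⟩
              exact ⟨inv_mem ha, N.neg_mem ha'⟩ }
        have hTn : ∀ x ∈ H, ∀ t ∈ T, x * t * x⁻¹ ∈ T := by
          rintro x hx t ⟨ht, ht'⟩
          exact ⟨h.nrm x hx t ht, hN ⟨x, hx⟩ _ ht'⟩
        have hTne : T ≠ ⊥ := by
          intro h1
          apply h0
          rw [eq_bot_iff]
          intro m hm
          have h2 : ((Additive.toMul m : U) : G) ∈ T := ⟨(Additive.toMul m).2, hm⟩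
          rw [h1, mem_bot] at h2
          rw [AddSubgroup.mem_bot]
          exact ext' h2
        have hzT : z ∈ T := by
          refine h.core T (fun t ht => ht.1) (fun s hs => ?_) hTne
          rw [mem_normalizer_iff]
          intro t
          refine ⟨hTn s (h.SH hs) t, fun ht => ?_⟩
          have h2 := hTn s⁻¹ (inv_mem (h.SH hs)) _ ht
          have e : s⁻¹ * (s * t * s⁻¹) * s⁻¹⁻¹ = t := by group
          rwa [e] at h2
        have hUT : U ≤ T := h.gen T fun x hx => hTn x hx z hzT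
        rw [eq_top_iff]
        intro m _
        obtain ⟨h1, h2⟩ := hUT (Additive.toMul m).2
        exact h2
    · intro i h0
      obtain ⟨u, hu, hne⟩ := h.ne i
      apply hne
      exact DFunLike.congr_fun h0 (Additive.ofMul ⟨u, hu⟩ : Additive U)
    · intro i
      obtain ⟨x, hx, -, hT⟩ := h.tr i
      exact ⟨h.c0 i, ⟨x, hx⟩, tv i ⟨c i, h.cU i⟩ x hx hT⟩
    · intro i j
      obtain ⟨s, hs, h1, h2⟩ := h.trans i j
      exact ⟨⟨s, h.SH hs⟩, act_f ⟨s, h.SH hs⟩ i j h1, ext' h2⟩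
    · rintro I ⟨j, hj⟩ h0
      have h1 := (hsum I).2 j
      rw [h0, if_pos hj] at h1
      have h2 : lam j ((Additive.toMul (0 : Additive U) : U) : G) = 0 := h.lam1 j
      rw [h2] at h1
      exact absurd h1 (by decide)
    · intro i s hs t ht
      obtain ⟨x, hx, hxQ, hT⟩ := h.tr i
      have hsz := z_iff s hs
      -- `s t s⁻¹ t⁻¹` acts as `s x s⁻¹ x⁻¹ ∈ Q`
      have hq : (s : G) * x * (s : G)⁻¹ * x⁻¹ ∈ Q := mul_mem (h.Qn s s.2 hsz x hxQ) (inv_mem hxQ)
      obtain ⟨n, hn⟩ := h.QP _ hq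
      refine ⟨n, fun u => ?_⟩
      have hx' := tv i ⟨c i, h.cU i⟩ x hx hT
      have e1 : ∀ u : Additive U, t • u = (⟨x, hx⟩ : H) • u := fun u => by rw [ht u, hx' u]
      have e2 : ∀ u : Additive U, t⁻¹ • u = (⟨x, hx⟩ : H)⁻¹ • u := by
        intro u
        rw [inv_smul_eq_iff, e1, smul_inv_smul]
      have e3 : ∀ u : Additive U, (s * t * s⁻¹ * t⁻¹) • u = (s * ⟨x, hx⟩ * s⁻¹ * (⟨x, hx⟩ : H)⁻¹) • u := by
        intro u
        simp only [mul_smul]
        rw [e2, e1]
      have e4 : ∀ (m : ℕ) (u : Additive U), ((s * t * s⁻¹ * t⁻¹) ^ m) • u =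
          ((s * ⟨x, hx⟩ * s⁻¹ * (⟨x, hx⟩ : H)⁻¹) ^ m) • u := by
        intro m
        induction m with
        | zero => intro u; rw [pow_zero, pow_zero]
        | succ m ih =>
          intro u
          rw [pow_succ, pow_succ, mul_smul ((s * t * s⁻¹ * t⁻¹) ^ m),
            mul_smul ((s * ⟨x, hx⟩ * s⁻¹ * (⟨x, hx⟩ : H)⁻¹) ^ m), e3, ih]
      rw [e4]
      have e5 : ((s * ⟨x, hx⟩ * s⁻¹ * (⟨x, hx⟩ : H)⁻¹) ^ (2 ^ n) : H) = 1 := by
        apply Subtype.ext
        rw [SubmonoidClass.coe_pow]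
        exact hn
      rw [e5, one_smul]
  obtain ⟨u, hu⟩ := D.exists_apply b
  exact ⟨((Additive.toMul u : U) : G), (Additive.toMul u).2, hu⟩

end GDat

end Cfsg.Agent.Omega.NOThreeL.AFour

end

-- merged: Cfsg.Agent.Mrg.Omega.NOThreeL.AFour.Two
section

/-!
# NO-3L A4, `q = 2` (helper884 #16392 (2)): `U_H` induces all upper unitriangular elements of `SL₂(2)^k`

* `FrA.exists_gen` : `Z = ⟨z⟩`; `FrA.gdat` : `GDat`;
* `ind_two` : `Ind M (zl S H) Set.univ`.
-/

set_option autoImplicit false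
set_option Elab.async false

namespace Cfsg.Agent.Omega.NOThreeL.AFour

open Subgroup Cfsg Cfsg.Agent.ZN Cfsg.Agent.Omega.FrameNOFF
open Cfsg.Agent.ZN.ChoiceBase hiding mem_zc
open Cfsg.Agent.Omega.MinPar Cfsg.Agent.Omega.FFThm Cfsg.Agent.Omega.Node.NO3L Cfsg.Agent.Omega.Frame
open Cfsg.Agent.Omega.NOThreeL.Basic Cfsg.Agent.Omega.NOThreeL.Main
open Cfsg.Agent.MinSimple.VModule (le_normalizer_zl zl_le zc_le_zl zc_le mem_zc zl_comm zl_sq le_o2 o2_isPGroup
  le_normalizer_o2 le_centralizer_zc o2_le)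
open Cfsg.Agent.Lib.SL2Mat
open Cfsg.Agent.Omega.NatPair (ap ap_mul ap_one ap_inv_ap ap_ap_inv exists_ap ap_add)
open Cfsg.Agent.Omega.IId (Ind cj_mem cj_mem' e_inj e_one e_inv sg sg_spec sg_eq_iff fac exists_fac exists_trans
  eq_one_of_cent mem_fac ext_fac)
open Cfsg.Agent.Omega.NOThreeL.ATwo (Up e_cm b_eq_zero_iff TvBy phi phi_eq_zero phi_eq_one phi_up phi_of_cent
  phi_conj)
open scoped Pointwise

universe u

variable {G : Type u} [Group G] [Finite G] {S : Sylow 2 G} {P H : Subgroup G} {F : Type} [Field F] {k : ℕ}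

theorem charP_of_two (two : ∀ x : F, x = 0 ∨ x = 1) : CharP F 2 := by
  refine CharTwo.of_one_ne_zero_of_two_eq_zero one_ne_zero ?_
  rcases two 2 with h | h
  · exact h
  · exfalso
    have h1 : (1 : F) + 1 = 1 := by rw [one_add_one_eq_two, h]
    exact one_ne_zero (left_eq_add.1 h1.symm)

namespace FrA

variable {M : NatK F (S : Subgroup G) P (zl (S : Subgroup G) P) ⊥ k} (h : FrA S P H M)
include h

/-- the generator of `Z` -/
theorem exists_gen (two : ∀ x : F, x = 0 ∨ x = 1) : ∃ z ∈ zc (S : Subgroup G), z ≠ 1 ∧ (∀ i, M.e z i = ![1, 0]) ∧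
    ∀ x ∈ zc (S : Subgroup G), x ≠ 1 → x = z := by
  have key : ∀ x ∈ zc (S : Subgroup G), x ≠ 1 → ∀ i, M.e x i = ![1, 0] := by
    intro x hx hx1 i
    have h5 := h.ez hx i
    have h6 : M.e x i 0 = 1 := by
      rcases two (M.e x i 0) with h0 | h0
      · exact absurd (NatPair.ext2 h0 h5) (h.ez_ne hx hx1 i)
      · exact h0
    exact NatPair.ext2 h6 h5
  obtain ⟨z, hz, hz1⟩ := h.exists_z
  refine ⟨z, hz, hz1, key z hz hz1, fun x hx hx1 => ?_⟩
  refine e_inj M (zc_le_zl _ _ hx) (zc_le_zl _ _ hz) (funext fun i => ?_)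
  rw [key x hx hx1 i, key z hz hz1 i]

variable {z : G}

theorem core {T : Subgroup G} (hz : ∀ x ∈ zc (S : Subgroup G), x ≠ 1 → x = z)
    (hT : T ≤ zl (S : Subgroup G) H) (hn : (S : Subgroup G) ≤ normalizer (T : Set G)) (h1 : T ≠ ⊥) : z ∈ T := by
  have : Fact (Nat.Prime 2) := ⟨Nat.prime_two⟩
  have hTp : IsPGroup 2 T := S.isPGroup'.to_le (hT.trans h.US)
  have h2 := Cfsg.Agent.PLocal.OffenderStep.inf_centralizer_ne_bot T (S : Subgroup G) hTp S.isPGroup' hn h1
  obtain ⟨x, hx, hx1⟩ : ∃ x ∈ T ⊓ centralizer ((S : Subgroup G) : Set G), x ≠ 1 := by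
    by_contra hcon
    push Not at hcon
    exact h2 ((eq_bot_iff_forall _).2 hcon)
  rw [mem_inf] at hx
  have h3 : x ∈ zc (S : Subgroup G) := by
    refine mem_zc.2 ⟨h.US (hT hx.1), fun b hb => mem_centralizer_iff.1 hx.2 b hb, ?_⟩
    rw [pow_two]
    exact h.sq x (hT hx.1)
  rw [← hz x h3 hx1]
  exact hx.1

omit h [Finite G] in
theorem mem_CZ' (hz : ∀ x ∈ zc (S : Subgroup G), x ≠ 1 → x = z) {g : G} (hg : g * z = z * g) :
    g ∈ CZ (S : Subgroup G) := by
  refine mem_centralizer_iff.2 fun x hx => ?_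
  by_cases h1 : x = 1
  · rw [h1, one_mul, mul_one]
  · rw [hz x hx h1, hg]

omit h [Finite G] in
theorem gen' (hz : ∀ x ∈ zc (S : Subgroup G), x ≠ 1 → x = z) (L : Subgroup G) (A : Subgroup G)
    (hA : ∀ x ∈ L, x * z * x⁻¹ ∈ A) : zl (S : Subgroup G) L ≤ A := by
  refine iSup_le fun g => ?_
  intro w hw
  have hw' := NoFF.Basic.mem_conj.1 hw
  by_cases h1 : (g : G)⁻¹ * w * g = 1
  · have h2 : w = 1 := by
      calc w = g * ((g : G)⁻¹ * w * g) * (g : G)⁻¹ := by group
        _ = 1 := by rw [h1]; group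
    rw [h2]
    exact one_mem _
  · have h2 := hz _ hw' h1
    have h3 : w = g * z * (g : G)⁻¹ := by rw [← h2]; group
    rw [h3]
    exact hA g g.2

/-- The elements `n i`, `c i` of the `i`-th factor. -/
theorem exists_tv [CharP F 2] (two : ∀ x : F, x = 0 ∨ x = 1) (i : Fin k) {c n : G} (hc : c ∈ zl (S : Subgroup G) P)
    (hce : M.e c = Pi.single i ![1, 0]) (hn : n ∈ zl (S : Subgroup G) P) (hne : M.e n = Pi.single i ![0, 1]) :
    TvBy (zl (S : Subgroup G) H) (phi M i) c n := by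
  intro u hu
  obtain ⟨b, hb⟩ := h.exists_b hu
  have h1 : ∀ j, M.e (u * n * u⁻¹ * n⁻¹) j = ![b j * M.e n j 1, 0] := e_cm (h.UP hu) hn hb
  have hmem : u * n * u⁻¹ * n⁻¹ ∈ zl (S : Subgroup G) P := mul_mem (cj_mem (h.UP hu) hn) (inv_mem hn)
  have h2 : n * u * n⁻¹ = (u * n * u⁻¹ * n⁻¹)⁻¹ * u := by group
  have hphi := phi_up (M := M) (i := i) (h.UP hu) hb
  rw [h2]
  split_ifs with h00
  · have h0 := hphi.1 h00
    have h3 : u * n * u⁻¹ * n⁻¹ = 1 := by
      refine e_inj M hmem (one_mem _) (funext fun j => ?_)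
      rw [h1 j, e_one]
      by_cases hj : j = i
      · rw [hj, h0]
        apply NatPair.ext2 <;> simp
      · rw [hne, Pi.single_eq_of_ne hj]
        apply NatPair.ext2 <;> simp
    rw [h3, inv_one, one_mul]
  · have hb1 : b i = 1 := (two _).resolve_left fun h0 => h00 (hphi.2 h0)
    have h3 : u * n * u⁻¹ * n⁻¹ = c := by
      refine e_inj M hmem hc (funext fun j => ?_)
      rw [h1 j, hce]
      by_cases hj : j = i
      · rw [hj, hb1, hne, Pi.single_eq_same, Pi.single_eq_same]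
        apply NatPair.ext2 <;> simp
      · rw [hne, Pi.single_eq_of_ne hj, Pi.single_eq_of_ne hj]
        apply NatPair.ext2 <;> simp
    rw [h3]
    have hcU : c ∈ zl (S : Subgroup G) H := h.line_le i hc hce
    have h4 := h.sq c hcU
    rw [inv_eq_of_mul_eq_one_left h4]
    exact h.ab c hcU u hu

omit h in
open Classical in
/-- the coordinates as functionals -/
noncomputable def lam (M : NatK F (S : Subgroup G) P (zl (S : Subgroup G) P) ⊥ k) (i : Fin k) (v : G) : ZMod 2 :=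
  if M.e v i 0 = 0 then 0 else 1

/-- the centres are permuted by `S` -/
theorem conj_c (hzm : z ∈ zc (S : Subgroup G)) (hez : ∀ i, M.e z i = ![1, 0]) {c : Fin k → G}
    (hcV : ∀ i, c i ∈ zl (S : Subgroup G) P) (hce : ∀ i, M.e (c i) = Pi.single i ![1, 0]) {s : G}
    (hs : s ∈ (S : Subgroup G)) {i j : Fin k} (hij : cj s (fac M i) = fac M j) : s * c i * s⁻¹ = c j := by
  have hsP := h.SP hs
  have hfac : ∀ i, c i ∈ fac M i := fun i => by
    refine (mem_fac M).2 ⟨hcV i, fun j hj => ?_⟩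
    rw [hce i, Pi.single_eq_of_ne hj]
  have h1 : s * c i * s⁻¹ ∈ fac M j := by
    rw [← hij]
    exact Subgroup.mem_map.2 ⟨c i, hfac i, rfl⟩
  refine ext_fac M h1 (hfac j) ?_
  have hzV : z ∈ zl (S : Subgroup G) P := zc_le_zl _ _ hzm
  have hsz : s * z * s⁻¹ = z := by rw [(mem_zc.1 hzm).2.1 s hs]; group
  -- `d = c i⁻¹ z`
  have h2 : M.e ((c i)⁻¹ * z) i = 0 := by
    rw [M.mul _ (inv_mem (hcV i)) _ hzV, e_inv M (hcV i), Pi.add_apply, Pi.neg_apply, hez, hce, Pi.single_eq_same,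
      neg_add_cancel]
  have h3 := (sg_spec M hsP (mul_mem (inv_mem (hcV i)) hzV) i).2 h2
  rw [(sg_eq_iff M hsP).2 hij] at h3
  have e : s * ((c i)⁻¹ * z) * s⁻¹ = (s * c i * s⁻¹)⁻¹ * z := by
    calc s * ((c i)⁻¹ * z) * s⁻¹ = (s * c i * s⁻¹)⁻¹ * (s * z * s⁻¹) := by group
      _ = _ := by rw [hsz]
  rw [e, M.mul _ (inv_mem (cj_mem hsP (hcV i))) _ hzV, e_inv M (cj_mem hsP (hcV i)), Pi.add_apply, Pi.neg_apply, hez,
    neg_add_eq_zero] at h3
  rw [h3, hce, Pi.single_eq_same]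

theorem gdat [CharP F 2] (two : ∀ x : F, x = 0 ∨ x = 1) (hzm : z ∈ zc (S : Subgroup G))
    (hez : ∀ i, M.e z i = ![1, 0]) (hz : ∀ x ∈ zc (S : Subgroup G), x ≠ 1 → x = z) {c : Fin k → G}
    (hcV : ∀ i, c i ∈ zl (S : Subgroup G) P) (hce : ∀ i, M.e (c i) = Pi.single i ![1, 0]) :
    GDat H (zl (S : Subgroup G) H) (S : Subgroup G) (o2 (CZ (S : Subgroup G))) (zl (S : Subgroup G) P) z
      (phi M) c (lam M) where
  SH := h.SH
  nrm := h.nrm
  ab := h.ab
  sq := h.sq
  zU := zc_le_zl _ _ hzm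
  gen := fun A hA => gen' hz H A hA
  core := fun T hT hn h1 => h.core hz hT hn h1
  add := by
    intro i u hu v hv
    obtain ⟨b, hb⟩ := h.exists_b hu
    obtain ⟨b', hb'⟩ := h.exists_b hv
    have h1 := phi_up (M := M) (i := i) (h.UP hu) hb
    have h2 := phi_up (M := M) (i := i) (h.UP hv) hb'
    have h3 := phi_up (M := M) (i := i) (mul_mem (h.UP hu) (h.UP hv)) (Up.mul (h.UP hv) hb hb')
    rw [Pi.add_apply] at h3
    rcases two (b i) with e1 | e1 <;> rcases two (b' i) with e2 | e2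
    · rw [h1.2 e1, h2.2 e2, h3.2 (by rw [e1, e2, add_zero]), add_zero]
    · rw [h1.2 e1, phi_eq_one.2 fun h0 => one_ne_zero (e2.symm.trans (h2.1 h0)),
        phi_eq_one.2 fun h0 => one_ne_zero (α := F) (by rw [← h3.1 h0, e1, e2, zero_add]), zero_add]
    · rw [h2.2 e2, phi_eq_one.2 fun h0 => one_ne_zero (e1.symm.trans (h1.1 h0)),
        phi_eq_one.2 fun h0 => one_ne_zero (α := F) (by rw [← h3.1 h0, e1, e2, add_zero]), add_zero]
    · rw [phi_eq_one.2 fun h0 => one_ne_zero (e1.symm.trans (h1.1 h0)),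
        phi_eq_one.2 fun h0 => one_ne_zero (e2.symm.trans (h2.1 h0)),
        h3.2 (by rw [e1, e2]; exact CharTwo.add_self_eq_zero 1)]
      decide
  ne := by
    intro i
    obtain ⟨u, hu, b, hub, hb⟩ := h.exists_ne i
    exact ⟨u, hu, fun h0 => hb ((phi_up (M := M) (h.UP hu) hub).1 h0)⟩
  cU := fun i => h.line_le i (hcV i) (hce i)
  c0 := by
    intro i
    refine phi_of_cent (M := M) ?_
    rw [mem_centralizer_iff]
    intro v hv
    exact e_inj M (mul_mem hv (hcV i)) (mul_mem (hcV i) hv) (by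
      rw [M.mul v hv _ (hcV i), M.mul _ (hcV i) v hv, add_comm])
  cV := hcV
  lam1 := by
    intro i
    unfold lam
    rw [e_one]
    exact if_pos rfl
  lamc := by
    intro i j
    unfold lam
    rw [hce j]
    by_cases hij : i = j
    · subst hij
      rw [Pi.single_eq_same, if_pos rfl, if_neg]
      exact one_ne_zero
    · rw [Pi.single_eq_of_ne hij, if_neg hij]
      exact if_pos rfl
  lamm := by
    intro i j v hv
    unfold lam
    rw [M.mul _ (hcV j) v hv, Pi.add_apply, Pi.add_apply]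
    rcases two (M.e (c j) i 0) with e1 | e1 <;> rcases two (M.e v i 0) with e2 | e2 <;> rw [e1, e2]
    · simp
    · simp
    · simp
    · have h11 : (1 : F) + 1 = 0 := CharTwo.add_self_eq_zero 1
      rw [h11, if_pos rfl, if_neg one_ne_zero]
      decide
  tr := by
    intro i
    obtain ⟨n, hn, hne⟩ := M.surj (Pi.single i ![0, 1])
    exact ⟨n, h.SH (h.VS hn), h.D.low P h.E.par hn, h.exists_tv two i (hcV i) (hce i) hn hne⟩
  QP := by
    intro x hx
    obtain ⟨n, hn⟩ := o2_isPGroup (CZ (S : Subgroup G)) ⟨x, hx⟩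
    exact ⟨n, congrArg Subtype.val hn⟩
  Qn := fun x _ hxz y hy => (mem_normalizer_iff.1 (le_normalizer_o2 _ (mem_CZ' hz hxz)) y).1 hy
  trans := by
    intro i j
    obtain ⟨s, hs, h1⟩ := exists_trans M h.SP i j
    exact ⟨s, hs, fun u _ => phi_conj h1, h.conj_c hzm hez hcV hce hs h1⟩

end FrA

/-- **`q = 2`: `U_H` induces everything.** -/
theorem ind_two (hc : IsCharacteristicTwoType G) (D : DataZ (S : Subgroup G)) (h : PairA (S : Subgroup G) P H)
    (two : ∀ x : F, x = 0 ∨ x = 1) (hk : 0 < k) (M : NatK F (S : Subgroup G) P (zl (S : Subgroup G) P) ⊥ k) :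
    Ind M (zl (S : Subgroup G) H) Set.univ := by
  have hchar : CharP F 2 := charP_of_two two
  have hne : (S : Subgroup G) ≠ ⊥ := by
    intro h0
    refine h.ne' fun u _ => mem_centralizer_iff.2 fun v hv => ?_
    have h1 := IsParS.zl_le_S hc h.par hv
    rw [h0, mem_bot] at h1
    rw [h1, one_mul, mul_one]
  have f : FrA S P H M := ⟨hc, hne, D, h, hk⟩
  obtain ⟨z, hzm, hz1, hez, hz⟩ := f.exists_gen two
  choose c hcV hce using fun i : Fin k => M.surj (Pi.single i ![1, 0])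
  have g := f.gdat two hzm hez hz hcV hce
  refine ⟨fun a ha => ?_, fun b _ => ?_⟩
  · obtain ⟨b, hb⟩ := f.exists_b ha
    exact ⟨b, fun i hi => absurd (Set.mem_univ i) hi, hb⟩
  · classical
    obtain ⟨u, hu, hub⟩ := g.exists_apply fun i => if b i = 0 then 0 else 1
    refine ⟨u, hu, ?_⟩
    obtain ⟨β, hβ⟩ := f.exists_b hu
    have : β = b := by
      funext i
      have h1 := phi_up (M := M) (i := i) (f.UP hu) hβ
      have h2 := hub i
      rcases two (b i) with h3 | h3
      · rw [if_pos h3] at h2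
        rw [h1.1 h2, h3]
      · rw [if_neg (by rw [h3]; exact one_ne_zero)] at h2
        rcases two (β i) with h4 | h4
        · rw [h1.2 h4] at h2
          exact absurd h2 (by decide)
        · rw [h4, h3]
    rw [← this]
    exact hβ

end Cfsg.Agent.Omega.NOThreeL.AFour

end
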